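import Cfsg.Agent.PLocal.Regular

/-!
# Regular `p`-groups: powers

* `pow_eq_iff`: `a^(p^k) = b^(p^k) ↔ (ab⁻¹)^(p^k) = 1`.
* `mul_pow_eq_one`: elements killed by `p^k` are closed under products.
* `commute_pow_iff`: `a^(p^k)` commutes with `b` iff `(a⁻¹b⁻¹ab)^(p^k) = 1`.
-/

set_option autoImplicit false
open Subgroup
open scoped commutatorElement

namespace Cfsg.Agent.H544.Regular

open Cfsg.Agent.PLocal.Regular

variable {G : Type*} [Group G] {p : ℕ}

/-- If all elements of a generating set, closed under nothing, are killed by `q` and products in `H`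
of elements killed by `q` are killed by `q`, then `H` is killed by `q`. -/
theorem exp_of_closure {q : ℕ} {S : Set G} {H : Subgroup G} (hS : S ⊆ H)
    (hSq : ∀ x ∈ S, x ^ q = 1)
    (hmul : ∀ x ∈ H, ∀ y ∈ H, x ^ q = 1 → y ^ q = 1 → (x * y) ^ q = 1) :
    ∀ x ∈ Subgroup.closure S, x ^ q = 1 := by
  have hle : Subgroup.closure S ≤ H := (Subgroup.closure_le _).mpr hS
  intro x hx
  induction hx using Subgroup.closure_induction with
  | mem x hx => exact hSq x hx
  | one => exact one_pow _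
  | mul x y hx hy hx1 hy1 => exact hmul x (hle hx) y (hle hy) hx1 hy1
  | inv x _ hx => rw [inv_pow, hx, inv_one]

/-- The derived subgroup of `⟨a, b⟩` is generated by the `⟨a, b⟩`-conjugates of `⁅a, b⁆`. -/
theorem commutator_closure_pair_le (a b : G) :
    ⁅Subgroup.closure ({a, b} : Set G), Subgroup.closure ({a, b} : Set G)⁆ ≤
      Subgroup.closure {x : G | ∃ g ∈ Subgroup.closure ({a, b} : Set G), x = g * ⁅a, b⁆ * g⁻¹} := by
  set L : Subgroup G := Subgroup.closure ({a, b} : Set G) with hL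
  set K : Subgroup G := Subgroup.closure {x : G | ∃ g ∈ L, x = g * ⁅a, b⁆ * g⁻¹} with hK
  have hnorm : ∀ g ∈ L, ∀ x ∈ K, g * x * g⁻¹ ∈ K := by
    intro g hg x hx
    induction hx using Subgroup.closure_induction with
    | mem x hx =>
      obtain ⟨h, hh, rfl⟩ := hx
      exact Subgroup.subset_closure ⟨g * h, mul_mem hg hh, by group⟩
    | one => simp
    | mul x y _ _ hx hy =>
      have : g * (x * y) * g⁻¹ = (g * x * g⁻¹) * (g * y * g⁻¹) := by group
      rw [this]; exact mul_mem hx hy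
    | inv x _ hx =>
      have : g * x⁻¹ * g⁻¹ = (g * x * g⁻¹)⁻¹ := by group
      rw [this]; exact inv_mem hx
  have hab : ⁅a, b⁆ ∈ K := Subgroup.subset_closure ⟨1, one_mem _, by simp⟩
  -- the elements commuting modulo K
  have hmod : ∀ x ∈ L, ∀ y ∈ L, ⁅x, y⁆ ∈ K → ⁅y, x⁆ ∈ K := by
    intro x _ y _ h
    rw [← commutatorElement_inv]; exact inv_mem h
  -- step 1: ⁅a, y⁆ ∈ K for all y ∈ L, given ⁅a,a⁆, ⁅a,b⁆ ∈ K
  have hstep : ∀ z ∈ L, (⁅z, a⁆ ∈ K) → (⁅z, b⁆ ∈ K) → ∀ y ∈ L, ⁅z, y⁆ ∈ K := by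
    intro z hz h1 h2 y hy
    rw [hL] at hy
    induction hy using Subgroup.closure_induction with
    | mem y hy =>
      rcases hy with rfl | rfl
      · exact h1
      · exact h2
    | one => simp
    | mul x y hx hy hx1 hy1 =>
      have : ⁅z, x * y⁆ = ⁅z, x⁆ * (x * ⁅z, y⁆ * x⁻¹) := by
        simp only [commutatorElement_def]; group
      rw [this]; exact mul_mem hx1 (hnorm x (by rw [hL]; exact hx) _ hy1)
    | inv x hx hx1 =>
      have : ⁅z, x⁻¹⁆ = (x⁻¹ * ⁅z, x⁆ * (x⁻¹)⁻¹)⁻¹ := by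
        simp only [commutatorElement_def]; group
      rw [this]; exact inv_mem (hnorm _ (inv_mem (by rw [hL]; exact hx)) _ hx1)
  have haL : a ∈ L := Subgroup.subset_closure (by simp)
  have hbL : b ∈ L := Subgroup.subset_closure (by simp)
  have ha : ∀ y ∈ L, ⁅a, y⁆ ∈ K := hstep a haL (by simp) hab
  have hb : ∀ y ∈ L, ⁅b, y⁆ ∈ K := hstep b hbL (hmod a haL b hbL hab) (by simp)
  rw [Subgroup.commutator_le]
  intro x hx y hy
  exact hstep x hx (hmod a haL x hx (ha x hx)) (hmod b hbL x hx (hb x hx)) y hy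

/-- The main induction. -/
theorem key [Finite G] [Fact p.Prime] (hG : Cfsg.IsRegularPGroup p G) (k : ℕ) (H : Subgroup G) :
    ∀ a ∈ H, ∀ b ∈ H, (a ^ p ^ k = b ^ p ^ k ↔ (a * b⁻¹) ^ p ^ k = 1) := by
  induction hm : Nat.card H using Nat.strong_induction_on generalizing H with
  | _ m ih =>
    subst hm
    intro a ha b hb
    by_cases hab : a * b = b * a
    · have hc : Commute a b := hab
      rw [(hc.inv_right).mul_pow, inv_pow, mul_inv_eq_one]
    set L : Subgroup G := Subgroup.closure ({a, b} : Set G) with hL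
    have haL : a ∈ L := Subgroup.subset_closure (by simp)
    have hbL : b ∈ L := Subgroup.subset_closure (by simp)
    have hLH : L ≤ H := by
      rw [hL, Subgroup.closure_le]
      rintro z (rfl | rfl)
      · exact ha
      · exact hb
    have hcard : Nat.card L ≤ Nat.card H := Subgroup.card_le_of_le hLH
    have hlt : ∀ K : Subgroup G, K < L → Nat.card K < Nat.card H := by
      intro K hK
      refine lt_of_lt_of_le ?_ hcard
      by_contra hcon
      push Not at hcon
      exact hK.ne (Subgroup.eq_of_le_of_card_ge hK.le hcon)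
    -- proper subgroups: `⟨g⟩ L'`
    have hprop : ∀ g ∈ L, (zpowers g ⊔ ⁅L, L⁆) < L := by
      intro g hg
      refine lt_of_le_not_ge
        (sup_le (by rw [zpowers_le]; exact hg) (Subgroup.commutator_le_self L)) ?_
      intro hle
      have h1 := le_zpowers_of_le_sup hG.1 L g hg hle
      obtain ⟨i, hi⟩ := Subgroup.mem_zpowers_iff.mp (h1 haL)
      obtain ⟨j, hj⟩ := Subgroup.mem_zpowers_iff.mp (h1 hbL)
      apply hab
      have hcomm : Commute (g ^ i) (g ^ j) := (Commute.refl g).zpow_zpow i j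
      rw [hi, hj] at hcomm
      exact hcomm
    have hder : ⁅L, L⁆ < L := lt_of_le_of_lt le_sup_right (hprop a haL)
    -- if `⁅a, b⁆` is killed then the derived subgroup is
    have hexp : ⁅a, b⁆ ^ p ^ k = 1 → ∀ c ∈ Cfsg.powerClosure p k ⁅L, L⁆, c = 1 := by
      intro h1
      have h2 : ∀ x ∈ ⁅L, L⁆, x ^ p ^ k = 1 := by
        intro x hx
        have hx' := commutator_closure_pair_le a b hx
        refine exp_of_closure (H := ⁅L, L⁆) ?_ ?_ ?_ x hx'
        · rintro _ ⟨g, hg, rfl⟩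
          have hc : ⁅a, b⁆ ∈ ⁅L, L⁆ := Subgroup.commutator_mem_commutator haL hbL
          have e1 : g * ⁅a, b⁆ * g⁻¹ = ⁅g, ⁅a, b⁆⁆ * ⁅a, b⁆ := by
            simp only [commutatorElement_def]; group
          rw [e1]
          exact mul_mem (Subgroup.commutator_mem_commutator hg
            (Subgroup.commutator_le_self L hc)) hc
        · rintro _ ⟨g, hg, rfl⟩
          rw [conj_pow, h1]; group
        · intro x hx y hy hx1 hy1
          have h3 := (ih _ (hlt _ hder) ⁅L, L⁆ rfl x hx y⁻¹ (inv_mem hy)).mp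
            (by rw [hx1, inv_pow, hy1, inv_one])
          rwa [inv_inv] at h3
      intro c hc
      have h4 : Cfsg.powerClosure p k ⁅L, L⁆ ≤ ⊥ := by
        refine (Subgroup.closure_le _).mpr ?_
        rintro _ ⟨x, hx, rfl⟩
        exact h2 x hx
      exact (Subgroup.mem_bot).mp (h4 hc)
    have hclosure : ∀ u ∈ L, ∀ v ∈ L, ⁅Subgroup.closure ({u, v} : Set G),
        Subgroup.closure ({u, v} : Set G)⁆ ≤ ⁅L, L⁆ := by
      intro u hu v hv
      have : Subgroup.closure ({u, v} : Set G) ≤ L := by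
        rw [Subgroup.closure_le]
        rintro z (rfl | rfl)
        · exact hu
        · exact hv
      exact Subgroup.commutator_mono this this
    constructor
    · intro h
      -- `b` and `a⁻¹ b a` have the same `p^k`-th power
      have h1 : (a * b * a⁻¹) ^ p ^ k = b ^ p ^ k := by
        rw [conj_pow, ← h]
        have : Commute a (a ^ p ^ k) := Commute.self_pow a _
        rw [this.eq]; group
      have h2 : ⁅a, b⁆ ^ p ^ k = 1 := by
        have hb' : b ∈ zpowers b ⊔ ⁅L, L⁆ :=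
          (le_sup_left : zpowers b ≤ zpowers b ⊔ ⁅L, L⁆) (mem_zpowers b)
        have hab' : a * b * a⁻¹ ∈ zpowers b ⊔ ⁅L, L⁆ := by
          have e1 : a * b * a⁻¹ = ⁅a, b⁆ * b := by
            simp only [commutatorElement_def]; group
          rw [e1]
          exact mul_mem ((le_sup_right : ⁅L, L⁆ ≤ zpowers b ⊔ ⁅L, L⁆)
            (Subgroup.commutator_mem_commutator haL hbL)) hb'
        exact (ih _ (hlt _ (hprop b hbL)) _ rfl _ hab' _ hb').mp h1
      obtain ⟨c, hc, hc2⟩ := hG.2 a b⁻¹ k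
      have hc1 : c = 1 := hexp h2 c
        (powerClosure_mono (hclosure a haL b⁻¹ (inv_mem hbL)) hc)
      rw [hc2, hc1, mul_one, h, inv_pow, mul_inv_cancel]
    · intro h
      set d := a * b⁻¹ with hd
      have hdL : d ∈ L := mul_mem haL (inv_mem hbL)
      have had : a = d * b := by rw [hd]; group
      have h1 : (b⁻¹ * d * (b⁻¹)⁻¹) ^ p ^ k = d ^ p ^ k := by
        rw [conj_pow, h]; group
      have h2 : ⁅a, b⁆ ^ p ^ k = 1 := by
        have hd' : d ∈ zpowers d ⊔ ⁅L, L⁆ :=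
          (le_sup_left : zpowers d ≤ zpowers d ⊔ ⁅L, L⁆) (mem_zpowers d)
        have hbd' : b⁻¹ * d * (b⁻¹)⁻¹ ∈ zpowers d ⊔ ⁅L, L⁆ := by
          have e1 : b⁻¹ * d * (b⁻¹)⁻¹ = ⁅b⁻¹, d⁆ * d := by
            simp only [commutatorElement_def]; group
          rw [e1]
          exact mul_mem ((le_sup_right : ⁅L, L⁆ ≤ zpowers d ⊔ ⁅L, L⁆)
            (Subgroup.commutator_mem_commutator (inv_mem hbL) hdL)) hd'
        have h3 := (ih _ (hlt _ (hprop d hdL)) _ rfl _ hbd' _ hd').mp h1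
        have e2 : ⁅a, b⁆ = b * (b⁻¹ * d * (b⁻¹)⁻¹ * d⁻¹) * b⁻¹ := by
          rw [commutatorElement_def, had]; group
        rw [e2, conj_pow, h3]; group
      obtain ⟨c, hc, hc2⟩ := hG.2 d b k
      have hc1 : c = 1 := hexp h2 c
        (powerClosure_mono (hclosure d hdL b hbL) hc)
      rw [had, hc2, hc1, mul_one, h, one_mul]

/-- In a regular `p`-group `a^(p^k) = b^(p^k)` iff `(ab⁻¹)^(p^k) = 1`. -/
theorem pow_eq_iff [Finite G] [Fact p.Prime] (hG : Cfsg.IsRegularPGroup p G) (a b : G) (k : ℕ) :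
    a ^ p ^ k = b ^ p ^ k ↔ (a * b⁻¹) ^ p ^ k = 1 :=
  key hG k ⊤ a (Subgroup.mem_top _) b (Subgroup.mem_top _)

/-- In a regular `p`-group the elements killed by `p^k` are closed under products. -/
theorem mul_pow_eq_one [Finite G] [Fact p.Prime] (hG : Cfsg.IsRegularPGroup p G) {a b : G} (k : ℕ)
    (ha : a ^ p ^ k = 1) (hb : b ^ p ^ k = 1) : (a * b) ^ p ^ k = 1 := by
  have h := (pow_eq_iff hG a b⁻¹ k).mp (by rw [ha, inv_pow, hb, inv_one])
  rwa [inv_inv] at h

/-- In a regular `p`-group the elements killed by `p^k` form a characteristic subgroup. -/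
theorem exists_omega [Finite G] [Fact p.Prime] (hG : Cfsg.IsRegularPGroup p G) (k : ℕ) :
    ∃ H : Subgroup G, H.Characteristic ∧ (H : Set G) = {x : G | x ^ p ^ k = 1} := by
  let H : Subgroup G :=
    { carrier := {x : G | x ^ p ^ k = 1}
      mul_mem' := fun {a b} ha hb => mul_pow_eq_one hG k ha hb
      one_mem' := one_pow _
      inv_mem' := fun {a} ha => by
        have ha' : a ^ p ^ k = 1 := ha
        show a⁻¹ ^ p ^ k = 1
        rw [inv_pow, ha', inv_one] }
  refine ⟨H, ?_, rfl⟩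
  rw [Subgroup.characteristic_iff_le_comap]
  intro f x hx
  have hx' : x ^ p ^ k = 1 := hx
  show f x ^ p ^ k = 1
  rw [← map_pow, hx', map_one]

/-- In a regular `p`-group `a^(p^k)` commutes with `b` iff `(a⁻¹b⁻¹ab)^(p^k) = 1`. -/
theorem commute_pow_iff [Finite G] [Fact p.Prime] (hG : Cfsg.IsRegularPGroup p G) (a b : G)
    (k : ℕ) : a ^ p ^ k * b = b * a ^ p ^ k ↔ (a⁻¹ * b⁻¹ * a * b) ^ p ^ k = 1 := by
  have h1 : a ^ p ^ k * b = b * a ^ p ^ k ↔ (b⁻¹ * a * (b⁻¹)⁻¹) ^ p ^ k = a ^ p ^ k := by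
    rw [conj_pow]
    constructor
    · intro h
      rw [inv_inv, mul_assoc, h]; group
    · intro h
      rw [inv_inv] at h
      calc a ^ p ^ k * b = b * (b⁻¹ * a ^ p ^ k * b) := by group
        _ = b * a ^ p ^ k := by rw [h]
  rw [h1, pow_eq_iff hG]
  have h2 : a⁻¹ * b⁻¹ * a * b = a⁻¹ * (b⁻¹ * a * (b⁻¹)⁻¹ * a⁻¹) * (a⁻¹)⁻¹ := by group
  rw [h2, conj_pow]
  constructor
  · intro h; rw [h]; group
  · intro h
    calc (b⁻¹ * a * (b⁻¹)⁻¹ * a⁻¹) ^ p ^ k
        = a * (a⁻¹ * (b⁻¹ * a * (b⁻¹)⁻¹ * a⁻¹) ^ p ^ k * (a⁻¹)⁻¹) * a⁻¹ := by group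
      _ = 1 := by rw [h]; group

end Cfsg.Agent.H544.Regular
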