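import Mathlib
import Cfsg.Agent.Classification.NGroupExclude

/-!
# Pyramidal groups: the examples

For an odd prime power `q > 3` the group `F_q² ⋊ SL₂(q)` has exactly `q²` involutions, forming a single
conjugacy class, and is not solvable.
-/

set_option autoImplicit false

namespace Cfsg.Agent.H544.Pyr1

open Matrix

variable (F : Type) [Field F]

/-- The action of `SL₂(F)` on `F²`, written multiplicatively. -/
def act : SpecialLinearGroup (Fin 2) F →* MulAut (Multiplicative (Fin 2 → F)) where
  toFun A :=
    { toFun := fun v => Multiplicative.ofAdd ((A : Matrix (Fin 2) (Fin 2) F) *ᵥ v.toAdd)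
      invFun := fun v => Multiplicative.ofAdd ((A⁻¹ : SpecialLinearGroup (Fin 2) F).1 *ᵥ v.toAdd)
      left_inv := by
        intro v
        apply Multiplicative.toAdd.injective
        simp only [toAdd_ofAdd]
        rw [Matrix.mulVec_mulVec, ← Matrix.SpecialLinearGroup.coe_mul, inv_mul_cancel,
          Matrix.SpecialLinearGroup.coe_one, Matrix.one_mulVec]
      right_inv := by
        intro v
        apply Multiplicative.toAdd.injective
        simp only [toAdd_ofAdd]
        rw [Matrix.mulVec_mulVec, ← Matrix.SpecialLinearGroup.coe_mul, mul_inv_cancel,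
          Matrix.SpecialLinearGroup.coe_one, Matrix.one_mulVec]
      map_mul' := by
        intro v w
        apply Multiplicative.toAdd.injective
        simp only [toAdd_ofAdd, toAdd_mul, Matrix.mulVec_add] }
  map_one' := by
    ext v : 1
    apply Multiplicative.toAdd.injective
    simp
  map_mul' := by
    intro A B
    ext v : 1
    apply Multiplicative.toAdd.injective
    show ((A * B : SpecialLinearGroup (Fin 2) F) : Matrix (Fin 2) (Fin 2) F) *ᵥ v.toAdd =
      (A : Matrix (Fin 2) (Fin 2) F) *ᵥ ((B : Matrix (Fin 2) (Fin 2) F) *ᵥ v.toAdd)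
    rw [Matrix.mulVec_mulVec, Matrix.SpecialLinearGroup.coe_mul]

/-- The group `F² ⋊ SL₂(F)`. -/
abbrev Grp : Type := Multiplicative (Fin 2 → F) ⋊[act F] SpecialLinearGroup (Fin 2) F

theorem act_apply (A : SpecialLinearGroup (Fin 2) F) (v : Multiplicative (Fin 2 → F)) :
    (act F A v).toAdd = (A : Matrix (Fin 2) (Fin 2) F) *ᵥ v.toAdd := rfl

variable {F}

theorem act_one' (v : Multiplicative (Fin 2 → F)) : (act F 1 v).toAdd = v.toAdd := by
  rw [map_one]; rfl

theorem act_neg' (v : Multiplicative (Fin 2 → F)) : (act F (-1) v).toAdd = -v.toAdd := by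
  rw [act_apply]
  have : ((-1 : SpecialLinearGroup (Fin 2) F) : Matrix (Fin 2) (Fin 2) F) = -1 := by simp
  rw [this, Matrix.neg_mulVec, Matrix.one_mulVec]

/-- Elements of `SL₂(F)` with square one are `±1`. -/
theorem eq_one_or_neg (h2 : (2 : F) ≠ 0) (A : SpecialLinearGroup (Fin 2) F) (h : A * A = 1) :
    A = 1 ∨ A = -1 := by
  have hd := A.det_coe
  rw [Matrix.det_fin_two] at hd
  have hm : (A : Matrix (Fin 2) (Fin 2) F) * (A : Matrix (Fin 2) (Fin 2) F) = 1 := by
    rw [← Matrix.SpecialLinearGroup.coe_mul, h, Matrix.SpecialLinearGroup.coe_one]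
  set a := (A : Matrix (Fin 2) (Fin 2) F) 0 0 with ha
  set b := (A : Matrix (Fin 2) (Fin 2) F) 0 1 with hb
  set c := (A : Matrix (Fin 2) (Fin 2) F) 1 0 with hc
  set d := (A : Matrix (Fin 2) (Fin 2) F) 1 1 with hd'
  have e00 : a * a + b * c = 1 := by
    have := congrFun (congrFun hm 0) 0
    rw [Matrix.mul_apply, Fin.sum_univ_two] at this
    simpa using this
  have e01 : a * b + b * d = 0 := by
    have := congrFun (congrFun hm 0) 1
    rw [Matrix.mul_apply, Fin.sum_univ_two] at this
    simpa using this
  have e10 : c * a + d * c = 0 := by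
    have := congrFun (congrFun hm 1) 0
    rw [Matrix.mul_apply, Fin.sum_univ_two] at this
    simpa using this
  have e11 : c * b + d * d = 1 := by
    have := congrFun (congrFun hm 1) 1
    rw [Matrix.mul_apply, Fin.sum_univ_two] at this
    simpa using this
  -- the trace is not zero
  have ht : a + d ≠ 0 := by
    intro h0
    apply h2
    have : d = -a := by linear_combination h0
    rw [this] at hd e11
    have h3 : a * a + b * c = -1 := by linear_combination -hd
    linear_combination h3 - e00
  have hb0 : b = 0 := by
    have : (a + d) * b = 0 := by linear_combination e01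
    exact (mul_eq_zero.mp this).resolve_left ht
  have hc0 : c = 0 := by
    have : (a + d) * c = 0 := by linear_combination e10
    exact (mul_eq_zero.mp this).resolve_left ht
  rw [hb0] at e00 hd
  rw [hc0] at hd
  have ha1 : a = 1 ∨ a = -1 := by
    have : (a - 1) * (a + 1) = 0 := by linear_combination e00
    rcases mul_eq_zero.mp this with h | h
    · left; linear_combination h
    · right; linear_combination h
  rcases ha1 with h1 | h1
  · left
    have hd1 : d = 1 := by rw [h1] at hd; linear_combination hd
    apply Matrix.SpecialLinearGroup.ext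
    intro i j
    fin_cases i <;> fin_cases j
    · simpa using h1
    · simpa using hb0
    · simpa using hc0
    · simpa using hd1
  · right
    have hd1 : d = -1 := by rw [h1] at hd; linear_combination -hd
    apply Matrix.SpecialLinearGroup.ext
    intro i j
    fin_cases i <;> fin_cases j
    · simpa using h1
    · simpa using hb0
    · simpa using hc0
    · simpa using hd1

theorem mem_inv (h2 : (2 : F) ≠ 0) (x : Grp F) : orderOf x = 2 ↔ x.right = -1 := by
  have hne : (-1 : SpecialLinearGroup (Fin 2) F) ≠ 1 := by
    intro h
    have := congrArg (fun A : SpecialLinearGroup (Fin 2) F => (A : Matrix (Fin 2) (Fin 2) F) 0 0) h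
    simp at this
    apply h2
    linear_combination -this
  constructor
  · intro h
    have hx : x * x = 1 := by
      have := pow_orderOf_eq_one x
      rwa [h, pow_two] at this
    have hx1 : x ≠ 1 := by
      rintro rfl
      rw [orderOf_one] at h
      omega
    have hr : x.right * x.right = 1 := by
      have := congrArg SemidirectProduct.right hx
      simpa using this
    rcases eq_one_or_neg h2 _ hr with h1 | h1
    · exfalso
      apply hx1
      have hl : x.left * act F x.right x.left = 1 := by
        have := congrArg SemidirectProduct.left hx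
        simpa using this
      have hl2 := congrArg Multiplicative.toAdd hl
      rw [toAdd_mul, h1, act_one', toAdd_one] at hl2
      ext i
      · have h3 := congrFun hl2 i
        have h4 : (2 : F) * (x.left.toAdd i) = 0 := by
          rw [two_mul]; exact h3
        have h5 := (mul_eq_zero.mp h4).resolve_left h2
        exact h5
      · rw [h1]; rfl
    · exact h1
  · intro h
    apply orderOf_eq_prime
    · rw [pow_two]
      apply SemidirectProduct.ext
      · apply Multiplicative.toAdd.injective
        rw [SemidirectProduct.mul_left, toAdd_mul, h, act_neg', add_neg_cancel]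
        rfl
      · rw [SemidirectProduct.mul_right, h]
        simp
    · rintro rfl
      exact hne h.symm

theorem card_inv [Finite F] (h2 : (2 : F) ≠ 0) :
    Nat.card {x : Grp F // orderOf x = 2} = Nat.card F ^ 2 := by
  have e : {x : Grp F // orderOf x = 2} ≃ (Fin 2 → F) :=
    { toFun := fun x => x.1.left.toAdd
      invFun := fun v => ⟨⟨Multiplicative.ofAdd v, -1⟩, (mem_inv h2 _).mpr rfl⟩
      left_inv := by
        intro x
        apply Subtype.ext
        apply SemidirectProduct.ext
        · rfl
        · exact ((mem_inv h2 x.1).mp x.2).symm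
      right_inv := fun _ => rfl }
  rw [Nat.card_congr e, Nat.card_fun, Nat.card_eq_fintype_card (α := Fin 2), Fintype.card_fin]

theorem conj (h2 : (2 : F) ≠ 0) (x y : Grp F) (hx : orderOf x = 2) (hy : orderOf y = 2) :
    ∃ g : Grp F, g * x * g⁻¹ = y := by
  rw [mem_inv h2] at hx hy
  set w : Fin 2 → F := (2 : F)⁻¹ • (y.left.toAdd - x.left.toAdd) with hw
  refine ⟨⟨Multiplicative.ofAdd w, 1⟩, ?_⟩
  rw [mul_inv_eq_iff_eq_mul]
  apply SemidirectProduct.ext
  · apply Multiplicative.toAdd.injective
    rw [SemidirectProduct.mul_left, SemidirectProduct.mul_left, toAdd_mul, toAdd_mul, hy,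
      act_neg', act_one', toAdd_ofAdd]
    ext i
    rw [hw]
    simp only [Pi.add_apply, Pi.smul_apply, Pi.sub_apply, smul_eq_mul, Pi.neg_apply]
    field_simp
    ring
  · rw [SemidirectProduct.mul_right, SemidirectProduct.mul_right, hx, hy]
    simp

theorem not_solvable [Fintype F] (h4 : 4 ≤ Fintype.card F) : ¬ Group.IsSolvable (Grp F) := by
  intro h
  apply Cfsg.Agent.Classification.NGroupExclude.not_isSolvable_sl F h4
  exact solvable_of_surjective (f := (SemidirectProduct.rightHom : Grp F →* _))
    SemidirectProduct.rightHom_surjective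

theorem not_solv (p k : ℕ) (hp : p.Prime) (hp2 : p ≠ 2) (hk : 1 ≤ k) (hke : Even k)
    (h9 : p ^ k ≠ 9) :
    ¬ (∀ (G : Type) [Group G] [Finite G], Nat.card {x : G // orderOf x = 2} = p ^ k →
      (∀ x y : G, orderOf x = 2 → orderOf y = 2 → ∃ g : G, g * x * g⁻¹ = y) →
        Group.IsSolvable G) := by
  intro H
  obtain ⟨m, rfl⟩ := hke
  have hm : m ≠ 0 := by omega
  have : Fact p.Prime := ⟨hp⟩
  let F := GaloisField p m
  have hcard : Nat.card F = p ^ m := GaloisField.card p m hm
  have : Fintype F := Fintype.ofFinite F
  have hcard' : Fintype.card F = p ^ m := by rw [← Nat.card_eq_fintype_card, hcard]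
  have h2 : (2 : F) ≠ 0 := by
    have : ringChar F = p := ringChar.eq F p
    apply Ring.two_ne_zero
    rw [this]; exact hp2
  have h3 := hp.two_le
  have h4 : 4 ≤ p ^ m := by
    by_contra hlt
    push Not at hlt
    have hm1 : m = 1 := by
      by_contra hne
      have : 2 ≤ m := by omega
      have h5 : p ^ 2 ≤ p ^ m := Nat.pow_le_pow_right (by omega) this
      nlinarith
    subst hm1
    rw [pow_one] at hlt
    have : p = 3 := by omega
    subst this
    exact h9 (by norm_num)
  have hfin : Finite (Grp F) :=
    Finite.of_injective (fun x : Grp F => (x.left.toAdd, x.right)) (by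
      intro x y h
      rw [Prod.mk.injEq] at h
      exact SemidirectProduct.ext (Multiplicative.toAdd.injective h.1) h.2)
  have hG := H (Grp F) (by rw [card_inv h2, hcard]; ring) (fun x y hx hy => conj h2 x y hx hy)
  exact not_solvable (F := F) (by rw [hcard']; exact h4) hG

end Cfsg.Agent.H544.Pyr1
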