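import Mathlib
import Cfsg.Agent.S0144
import Cfsg.Agent.Lib.SolvableMinNormal

/-!
# Pyramidal groups: nine involutions

A finite group with exactly nine involutions, forming one conjugacy class, is solvable (given that the
subgroup generated by the involutions is solvable, and the odd order theorem).
-/

set_option autoImplicit false

namespace Cfsg.Agent.H544.Pyr2

open Equiv MulAction

/-- A permutation of prime order `r` of fewer than `r` points is trivial. -/
theorem triv_of_small {β : Type*} [Fintype β] [DecidableEq β] {r : ℕ} (hr : r.Prime)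
    (hβ : Fintype.card β < r) (σ : Perm β) (hσ : σ ^ r = 1) : σ = 1 := by
  rw [← orderOf_dvd_iff_pow_eq_one, Nat.dvd_prime hr] at hσ
  rcases hσ with h | h
  · exact orderOf_eq_one_iff.mp h
  · exfalso
    have h1 : orderOf σ ∣ Fintype.card (Perm β) := orderOf_dvd_card
    rw [h, Fintype.card_perm, hr.dvd_factorial] at h1
    omega

/-- A transitive group of degree nine with a nontrivial abelian normal subgroup has order
`2^a 3^b`. -/
theorem prime_le {α : Type*} [Fintype α] [DecidableEq α] (h9 : Fintype.card α = 9)
    (H : Subgroup (Perm α)) (htr : ∀ x y : α, ∃ h ∈ H, h x = y) (M : Subgroup (Perm α))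
    (hMH : M ≤ H) (hMn : ∀ h ∈ H, ∀ m ∈ M, h * m * h⁻¹ ∈ M) (hM : ∃ m ∈ M, m ≠ 1)
    (hab : ∀ m ∈ M, ∀ n ∈ M, m * n = n * m) {r : ℕ} (hr : r.Prime) (hrH : r ∣ Nat.card H) :
    r ≤ 3 := by
  by_contra hlt
  push Not at hlt
  have hr5 : 5 ≤ r := by
    by_contra h
    have : r = 4 := by omega
    rw [this] at hr
    exact absurd hr (by norm_num)
  have : Fact r.Prime := ⟨hr⟩
  obtain ⟨x', hx'⟩ := exists_prime_orderOf_dvd_card' r hrH
  set x : Perm α := (x' : Perm α) with hxdef
  have hxH : x ∈ H := x'.2
  have hxo : orderOf x = r := by rw [hxdef, Subgroup.orderOf_coe, hx']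
  have hxr : x ^ r = 1 := by rw [← hxo, pow_orderOf_eq_one]
  have hx1 : x ≠ 1 := by
    intro h
    rw [h, orderOf_one] at hxo
    rw [← hxo] at hr
    exact Nat.not_prime_one hr
  -- the orbits of `M`
  let s : Setoid α := ⟨fun y z => ∃ m ∈ M, m y = z, by
    refine ⟨fun y => ⟨1, one_mem _, rfl⟩, ?_, ?_⟩
    · rintro y z ⟨m, hm, rfl⟩
      exact ⟨m⁻¹, inv_mem hm, by simp⟩
    · rintro y z w ⟨m, hm, rfl⟩ ⟨n, hn, rfl⟩
      exact ⟨n * m, mul_mem hn hm, rfl⟩⟩
  have hs : ∀ y z, s.r y z ↔ ∃ m ∈ M, m y = z := fun y z => Iff.rfl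
  have hsH : ∀ h ∈ H, ∀ y z, s.r y z → s.r (h y) (h z) := by
    rintro h hh y z ⟨m, hm, rfl⟩
    exact ⟨h * m * h⁻¹, hMn h hh m hm, by simp⟩
  classical
  let cls : α → Finset α := fun y => Finset.univ.filter (fun z => s.r y z)
  have hcls : ∀ y z, z ∈ cls y ↔ ∃ m ∈ M, m y = z := by
    intro y z
    simp only [cls, Finset.mem_filter, Finset.mem_univ, true_and, hs]
  have hcard : ∀ y z, (cls y).card ≤ (cls z).card := by
    intro y z
    obtain ⟨h, hh, rfl⟩ := htr y z
    apply Finset.card_le_card_of_injOn h
    · intro w hw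
      rw [Finset.mem_coe, hcls] at hw ⊢
      exact hsH h hh _ _ hw
    · exact h.injective.injOn
  have hcard' : ∀ y z, (cls y).card = (cls z).card := fun y z => le_antisymm (hcard y z) (hcard z y)
  obtain ⟨m0, hm0, hm01⟩ := hM
  obtain ⟨y0, hy0⟩ : ∃ y, m0 y ≠ y := by
    by_contra hcon
    push Not at hcon
    exact hm01 (Equiv.ext hcon)
  set c := (cls y0).card with hc
  have hc2 : 2 ≤ c := by
    have : ({y0, m0 y0} : Finset α) ⊆ cls y0 := by
      intro z hz
      rw [Finset.mem_insert, Finset.mem_singleton] at hz
      rw [hcls]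
      rcases hz with rfl | rfl
      · exact ⟨1, one_mem _, rfl⟩
      · exact ⟨m0, hm0, rfl⟩
    have h1 := Finset.card_le_card this
    rwa [Finset.card_pair (Ne.symm hy0)] at h1
  -- the number of orbits
  have hcount : Fintype.card (Quotient s) * c = 9 := by
    rw [← h9, ← Finset.card_univ (α := α), ← Finset.card_univ (α := Quotient s), ← smul_eq_mul,
      ← Finset.sum_const]
    have h1 : (Finset.univ : Finset α) =
        (Finset.univ : Finset (Quotient s)).biUnion
          (fun q => Finset.univ.filter (fun z => (Quotient.mk s z) = q)) := by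
      ext z
      simp
    rw [h1, Finset.card_biUnion]
    · apply Finset.sum_congr rfl
      intro q _
      obtain ⟨w, rfl⟩ := Quotient.exists_rep q
      rw [hc, hcard' y0 w]
      congr 1
      ext z
      rw [hcls, Finset.mem_filter]
      simp only [Finset.mem_univ, true_and]
      rw [Quotient.eq]
      exact ⟨fun h => s.symm h, fun h => s.symm h⟩
    · intro q _ q' _ hne
      rw [Function.onFun, Finset.disjoint_left]
      intro z hz hz'
      rw [Finset.mem_filter] at hz hz'
      exact hne (hz.2.symm.trans hz'.2)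
  have hcd : c ∣ 9 := Dvd.intro_left _ hcount
  have hc39 : c = 3 ∨ c = 9 := by
    clear_value c
    have h1 : c ≤ 9 := Nat.le_of_dvd (by norm_num) hcd
    clear hc hcount
    interval_cases c
    · omega
    · left; rfl
    · omega
    · omega
    · omega
    · omega
    · omega
    · right; rfl
  -- a fixed point of `x`
  obtain ⟨ω, hω⟩ : ∃ ω, x ω = ω := by
    apply Equiv.Perm.exists_fixed_point_of_prime (p := r) (n := 1)
    · rw [h9]
      intro h
      have h1 := Nat.le_of_dvd (by norm_num) h
      have h2 : r = 5 ∨ r = 6 ∨ r = 7 ∨ r = 8 ∨ r = 9 := by omega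
      rcases h2 with rfl | rfl | rfl | rfl | rfl
      · omega
      · omega
      · omega
      · omega
      · exact absurd hr (by norm_num)
    · rw [pow_one]; exact hxr
  rcases hc39 with h3 | h3
  · -- three orbits
    rw [h3] at hcount
    have hQ : Fintype.card (Quotient s) = 3 := by omega
    let σ : Perm (Quotient s) :=
      { toFun := Quotient.map x (fun y z h => hsH x hxH y z h)
        invFun := Quotient.map (x⁻¹ : Perm α) (fun y z h => hsH _ (inv_mem hxH) y z h)
        left_inv := by
          intro q
          obtain ⟨w, rfl⟩ := Quotient.exists_rep q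
          simp
        right_inv := by
          intro q
          obtain ⟨w, rfl⟩ := Quotient.exists_rep q
          simp }
    have hσ : ∀ w, σ (Quotient.mk s w) = Quotient.mk s (x w) := fun _ => rfl
    have hσi : ∀ (i : ℕ) w, (σ ^ i) (Quotient.mk s w) = Quotient.mk s ((x ^ i) w) := by
      intro i
      induction i with
      | zero => intro w; simp
      | succ i ih => intro w; rw [pow_succ, pow_succ, Perm.mul_apply, Perm.mul_apply, hσ, ih]
    have hσ1 : σ = 1 := by
      apply triv_of_small hr (by omega)
      apply Equiv.ext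
      intro q
      obtain ⟨w, rfl⟩ := Quotient.exists_rep q
      rw [hσi, hxr]; rfl
    have hinv : ∀ w, s.r w (x w) := by
      intro w
      have h4 : σ (Quotient.mk s w) = Quotient.mk s w := by rw [hσ1]; rfl
      rw [hσ, Quotient.eq] at h4
      exact s.symm h4
    apply hx1
    apply Equiv.ext
    intro w
    have hw : ∀ z, x z ∈ cls w ↔ z ∈ cls w := by
      intro z
      rw [hcls, hcls]
      constructor
      · intro h; exact s.trans h (s.symm (hinv z))
      · intro h; exact s.trans h (hinv z)
    have h5 : (x.subtypePerm hw : Perm {z // z ∈ cls w}) = 1 := by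
      apply triv_of_small hr
      · rw [Fintype.card_coe, hcard' w y0, ← hc, h3]; omega
      · rw [Equiv.Perm.subtypePerm_pow]
        apply Equiv.ext
        intro z
        apply Subtype.ext
        simp [hxr]
    have hww : w ∈ cls w := (hcls w w).mpr ⟨1, one_mem _, rfl⟩
    have := congrArg (fun f : Perm {z // z ∈ cls w} => (f ⟨w, hww⟩ : α)) h5
    simpa using this
  · -- `M` is regular
    have hMtr : ∀ z, ∃ m ∈ M, m ω = z := by
      intro z
      rw [← hcls]
      have : cls ω = Finset.univ := by
        rw [← Finset.card_eq_iff_eq_univ, hcard' ω y0, ← hc, h3, h9]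
      rw [this]; exact Finset.mem_univ _
    have hMreg : ∀ m ∈ M, m ω = ω → m = 1 := by
      intro m hm h
      apply Equiv.ext
      intro z
      obtain ⟨n, hn, rfl⟩ := hMtr z
      rw [← Perm.mul_apply, hab m hm n hn, Perm.mul_apply, h]; rfl
    have hMcard : Nat.card M = 9 := by
      rw [← h9, ← Nat.card_eq_fintype_card]
      apply Nat.card_congr
      refine Equiv.ofBijective (fun m : M => (m : Perm α) ω) ⟨?_, ?_⟩
      · intro m n h
        have h1 : (n : Perm α)⁻¹ * m = 1 := by
          apply hMreg _ (mul_mem (inv_mem n.2) m.2)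
          rw [Perm.mul_apply]
          have : (m : Perm α) ω = (n : Perm α) ω := h
          rw [this]; simp
        apply Subtype.ext
        exact (inv_mul_eq_one.mp h1).symm
      · intro z
        obtain ⟨m, hm, h⟩ := hMtr z
        exact ⟨⟨m, hm⟩, h⟩
    -- conjugation by `x`
    have hxinv : ∀ m ∈ M, x⁻¹ * m * x ∈ M := by
      intro m hm
      have := hMn x⁻¹ (inv_mem hxH) m hm
      rwa [inv_inv] at this
    let σ : Perm M :=
      { toFun := fun m => ⟨x * m * x⁻¹, hMn x hxH m m.2⟩
        invFun := fun m => ⟨x⁻¹ * m * x, hxinv m m.2⟩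
        left_inv := by intro m; apply Subtype.ext; show x⁻¹ * (x * m * x⁻¹) * x = m; group
        right_inv := by intro m; apply Subtype.ext; show x * (x⁻¹ * m * x) * x⁻¹ = m; group }
    have hσi : ∀ (i : ℕ) (m : M), (((σ ^ i) m : M) : Perm α) = x ^ i * m * (x ^ i)⁻¹ := by
      intro i
      induction i with
      | zero => intro m; simp
      | succ i ih =>
        intro m
        rw [pow_succ, Perm.mul_apply, ih]
        show x ^ i * (x * m * x⁻¹) * (x ^ i)⁻¹ = _
        rw [pow_succ]; group
    have hσr : σ ^ r ^ 1 = 1 := by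
      rw [pow_one]
      apply Equiv.ext
      intro m
      apply Subtype.ext
      rw [hσi, hxr]; simp
    have : Fintype M := Fintype.ofFinite M
    have hmod := Equiv.Perm.card_fixedPoints_modEq (f := ((σ : M → M) : Function.End M)) (p := r) (n := 1) (by
      have h1 := congrArg (fun f : Perm M => (f : M → M)) hσr
      rw [Equiv.Perm.coe_pow] at h1
      exact h1)
    -- the centralizer of `x` in `M`
    let Z : Subgroup M :=
      { carrier := {m | x * m = m * x}
        mul_mem' := by
          intro m n hm hn
          show x * (m * n) = (m * n) * x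
          have hm' : x * m = m * x := hm
          have hn' : x * n = n * x := hn
          rw [← mul_assoc, hm', mul_assoc, hn', mul_assoc]
        one_mem' := by show x * 1 = 1 * x; simp
        inv_mem' := by
          intro m hm
          show x * (m : Perm α)⁻¹ = (m : Perm α)⁻¹ * x
          have hm' : x * m = m * x := hm
          calc x * (m : Perm α)⁻¹ = (m : Perm α)⁻¹ * (m * x) * (m : Perm α)⁻¹ := by group
            _ = (m : Perm α)⁻¹ * (x * m) * (m : Perm α)⁻¹ := by rw [hm']
            _ = (m : Perm α)⁻¹ * x := by group }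
    have hZf : Fintype.card (Function.fixedPoints ((σ : M → M) : Function.End M)) = Nat.card Z := by
      rw [← Nat.card_eq_fintype_card]
      apply Nat.card_congr
      apply Equiv.subtypeEquivRight
      intro m
      show σ m = m ↔ x * (m : Perm α) = m * x
      rw [Subtype.ext_iff]
      show x * (m : Perm α) * x⁻¹ = m ↔ _
      rw [mul_inv_eq_iff_eq_mul]
    rw [hZf, ← Nat.card_eq_fintype_card, hMcard] at hmod
    have hZ9 : Nat.card Z ∣ 9 := by rw [← hMcard]; exact Subgroup.card_subgroup_dvd_card Z
    have hZ : Nat.card Z = 9 := by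
      have h1 : Nat.card Z ≤ 9 := Nat.le_of_dvd (by norm_num) hZ9
      have hpos : 0 < Nat.card Z := Nat.card_pos
      rw [Nat.ModEq.comm, Nat.modEq_iff_dvd' h1] at hmod
      generalize Nat.card Z = z at *
      by_contra hne
      have h5 : r ≤ 9 - z := Nat.le_of_dvd (by omega) hmod
      have hr8 : r ≤ 8 := by omega
      clear hrH
      interval_cases z <;> interval_cases r <;>
        first | omega | exact absurd hr (by norm_num)
    have hZtop : Z = ⊤ := by
      apply Subgroup.eq_top_of_card_eq
      rw [hZ, hMcard]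
    apply hx1
    apply Equiv.ext
    intro z
    obtain ⟨m, hm, rfl⟩ := hMtr z
    have h1 : (⟨m, hm⟩ : M) ∈ Z := by rw [hZtop]; trivial
    have h2 : x * m = m * x := h1
    rw [← Perm.mul_apply, h2, Perm.mul_apply, hω]; rfl

/-- The conjugation action on the involutions. -/
def phi (G : Type*) [Group G] : G →* Perm {x : G // orderOf x = 2} where
  toFun g :=
    { toFun := fun x => ⟨g * x * g⁻¹, by rw [← MulAut.conj_apply, MulEquiv.orderOf_eq]; exact x.2⟩
      invFun := fun x => ⟨g⁻¹ * x * g, by
        have := MulEquiv.orderOf_eq (MulAut.conj g⁻¹) (x : G)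
        rw [MulAut.conj_apply, inv_inv] at this
        rw [this]; exact x.2⟩
      left_inv := by
        intro x
        apply Subtype.ext
        show g⁻¹ * (g * x * g⁻¹) * g = x
        group
      right_inv := by
        intro x
        apply Subtype.ext
        show g * (g⁻¹ * x * g) * g⁻¹ = x
        group }
  map_one' := by
    apply Equiv.ext
    intro x
    apply Subtype.ext
    show 1 * (x : G) * 1⁻¹ = x
    group
  map_mul' := by
    intro g h
    apply Equiv.ext
    intro x
    apply Subtype.ext
    show g * h * (x : G) * (g * h)⁻¹ = g * (h * x * h⁻¹) * g⁻¹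
    group

theorem phi_apply {G : Type*} [Group G] (g : G) (x : {x : G // orderOf x = 2}) :
    (phi G g x : G) = g * x * g⁻¹ := rfl

/-- If the involutions form one class and some involution commutes with all of them, then their
number is `2^n - 1`. -/
theorem card_central {G : Type*} [Group G] [Finite G]
    (hconj : ∀ x y : G, orderOf x = 2 → orderOf y = 2 → ∃ g : G, g * x * g⁻¹ = y)
    (s : G) (hs : orderOf s = 2) (hcomm : ∀ x : G, orderOf x = 2 → s * x = x * s) :
    ∃ n : ℕ, Nat.card {x : G // orderOf x = 2} + 1 = 2 ^ n := by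
  have hall : ∀ x y : G, orderOf x = 2 → orderOf y = 2 → x * y = y * x := by
    intro x y hx hy
    obtain ⟨g, rfl⟩ := hconj s x hs hx
    have h1 : orderOf (g⁻¹ * y * g) = 2 := by
      have := MulEquiv.orderOf_eq (MulAut.conj g⁻¹) y
      rw [MulAut.conj_apply, inv_inv] at this
      rw [this]; exact hy
    have h2 := hcomm _ h1
    calc g * s * g⁻¹ * y = g * (s * (g⁻¹ * y * g)) * g⁻¹ := by group
      _ = g * ((g⁻¹ * y * g) * s) * g⁻¹ := by rw [h2]
      _ = y * (g * s * g⁻¹) := by group
  have hsq : ∀ x : G, x * x = 1 ↔ x = 1 ∨ orderOf x = 2 := by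
    intro x
    constructor
    · intro h
      by_cases hx : x = 1
      · exact Or.inl hx
      · exact Or.inr (orderOf_eq_prime (by rw [pow_two, h]) hx)
    · rintro (rfl | h)
      · simp
      · have := pow_orderOf_eq_one x
        rwa [h, pow_two] at this
  let E : Subgroup G :=
    { carrier := {x | x * x = 1}
      mul_mem' := by
        intro x y hx hy
        have hx' : x * x = 1 := hx
        have hy' : y * y = 1 := hy
        show x * y * (x * y) = 1
        have hc : y * x = x * y := by
          rcases (hsq x).mp hx' with rfl | hx2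
          · simp
          rcases (hsq y).mp hy' with rfl | hy2
          · simp
          exact hall y x hy2 hx2
        calc x * y * (x * y) = x * (y * x) * y := by group
          _ = x * (x * y) * y := by rw [hc]
          _ = (x * x) * (y * y) := by group
          _ = 1 := by rw [hx', hy', one_mul]
      one_mem' := by show (1 : G) * 1 = 1; simp
      inv_mem' := by
        intro x hx
        have hx' : x * x = 1 := hx
        show x⁻¹ * x⁻¹ = 1
        rw [← mul_inv_rev, hx', inv_one] }
  have hE : IsPGroup 2 E := by
    intro x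
    refine ⟨1, ?_⟩
    apply Subtype.ext
    have : (x : G) * x = 1 := x.2
    simp [pow_two, this]
  obtain ⟨n, hn⟩ := IsPGroup.iff_card.mp hE
  refine ⟨n, ?_⟩
  rw [← hn]
  have e : E ≃ Option {x : G // orderOf x = 2} := by
    classical
    exact
    { toFun := fun x => if h : (x : G) = 1 then none else some ⟨x, ((hsq x).mp x.2).resolve_left h⟩
      invFun := fun o => match o with
        | none => 1
        | some x => ⟨x, (hsq x).mpr (Or.inr x.2)⟩
      left_inv := by
        intro x
        by_cases h : (x : G) = 1
        · simp only [h, dif_pos]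
          exact Subtype.ext h.symm
        · simp only [h, dif_neg, not_false_iff]
      right_inv := by
        intro o
        cases o with
        | none => simp
        | some x =>
          have h : (x : G) ≠ 1 := by
            intro h
            have := x.2
            rw [h, orderOf_one] at this
            omega
          simp [h] }
  rw [Nat.card_congr e, Finite.card_option]

/-- A finite group with exactly nine involutions, forming one class, is solvable. -/
theorem nine {G : Type*} [Group G] [Finite G]
    (hFT : ∀ K : Subgroup G, Odd (Nat.card K) → Group.IsSolvable K)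
    (hKaz : ∀ t : G, orderOf t = 2 →
      Group.IsSolvable (Subgroup.normalClosure ({t} : Set G)))
    (h9 : Nat.card {x : G // orderOf x = 2} = 9)
    (hconj : ∀ x y : G, orderOf x = 2 → orderOf y = 2 → ∃ g : G, g * x * g⁻¹ = y) :
    Group.IsSolvable G := by
  classical
  have : Fintype {x : G // orderOf x = 2} := Fintype.ofFinite _
  have h9' : Fintype.card {x : G // orderOf x = 2} = 9 := by
    rw [← Nat.card_eq_fintype_card, h9]
  obtain ⟨⟨t, ht⟩⟩ : Nonempty {x : G // orderOf x = 2} := by
    rw [← Fintype.card_pos_iff]; omega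
  -- the kernel
  have hker : Odd (Nat.card (phi G).ker) := by
    rw [← Nat.not_even_iff_odd, even_iff_two_dvd]
    intro h2
    obtain ⟨s, hs⟩ := exists_prime_orderOf_dvd_card' 2 h2
    have hs2 : orderOf (s : G) = 2 := by rw [Subgroup.orderOf_coe, hs]
    obtain ⟨n, hn⟩ := card_central hconj (s : G) hs2 (by
      intro x hx
      have h1 : phi G s = 1 := s.2
      have h2 := congrArg (fun f : Perm {x : G // orderOf x = 2} => (f ⟨x, hx⟩ : G)) h1
      have h3 : (s : G) * x * (s : G)⁻¹ = x := h2
      rwa [mul_inv_eq_iff_eq_mul] at h3)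
    rw [h9] at hn
    have hn4 : n < 4 := by
      by_contra h
      push Not at h
      have : 2 ^ 4 ≤ 2 ^ n := Nat.pow_le_pow_right (by norm_num) h
      omega
    interval_cases n <;> omega
  have hkers : Group.IsSolvable (phi G).ker := hFT _ hker
  -- the range
  have hN := hKaz t ht
  set N := Subgroup.normalClosure ({t} : Set G) with hNdef
  have htN : t ∈ N := Subgroup.subset_normalClosure rfl
  have hNn : N.Normal := Subgroup.normalClosure_normal
  have hNs : Group.IsSolvable (N.map (phi G)) := by
    have : Function.Surjective ((phi G).subgroupMap N) := MonoidHom.subgroupMap_surjective _ _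
    exact solvable_of_surjective this
  have hNt : Nontrivial (N.map (phi G)) := by
    rw [Subgroup.nontrivial_iff_exists_ne_one]
    refine ⟨phi G t, ⟨t, htN, rfl⟩, ?_⟩
    intro h
    have h1 : t ∈ (phi G).ker := h
    have h2 : orderOf (⟨t, h1⟩ : (phi G).ker) ∣ Nat.card (phi G).ker := orderOf_dvd_natCard _
    rw [Subgroup.orderOf_mk, ht, ← even_iff_two_dvd] at h2
    exact (Nat.not_even_iff_odd.mpr hker) h2
  obtain ⟨A, hAc, hAa, hA1⟩ :=
    Cfsg.Agent.Lib.SolvableMinNormal.exists_characteristic_abelian (G := N.map (phi G))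
  set M := A.map (N.map (phi G)).subtype with hM
  have hMle : M ≤ N.map (phi G) := Subgroup.map_subtype_le _
  have hrange : ∀ r : ℕ, r.Prime → r ∣ Nat.card (phi G).range → r ≤ 3 := by
    intro r hr hrd
    refine prime_le h9' (phi G).range ?_ M ?_ ?_ ?_ ?_ hr hrd
    · intro x y
      obtain ⟨g, hg⟩ := hconj x y x.2 y.2
      exact ⟨phi G g, ⟨g, rfl⟩, Subtype.ext hg⟩
    · intro x hx
      obtain ⟨g, _, rfl⟩ := hMle hx
      exact ⟨g, rfl⟩
    · rintro _ ⟨g, rfl⟩ _ ⟨⟨m, hm⟩, hmA, rfl⟩
      -- conjugation by `phi g` is an automorphism of `N.map phi`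
      have hnor : ∀ n ∈ N.map (phi G), phi G g * n * (phi G g)⁻¹ ∈ N.map (phi G) := by
        rintro _ ⟨n, hn, rfl⟩
        exact ⟨g * n * g⁻¹, hNn.conj_mem n hn g, by rw [map_mul, map_mul, map_inv]⟩
      have hnor' : ∀ n ∈ N.map (phi G), (phi G g)⁻¹ * n * phi G g ∈ N.map (phi G) := by
        rintro _ ⟨n, hn, rfl⟩
        refine ⟨g⁻¹ * n * g, ?_, by rw [map_mul, map_mul, map_inv]⟩
        have := hNn.conj_mem n hn g⁻¹
        rwa [inv_inv] at this
      let ψ : MulAut (N.map (phi G)) :=
        { toFun := fun n => ⟨phi G g * n * (phi G g)⁻¹, hnor n n.2⟩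
          invFun := fun n => ⟨(phi G g)⁻¹ * n * phi G g, hnor' n n.2⟩
          left_inv := by
            intro n; apply Subtype.ext
            show (phi G g)⁻¹ * (phi G g * n * (phi G g)⁻¹) * phi G g = n
            group
          right_inv := by
            intro n; apply Subtype.ext
            show phi G g * ((phi G g)⁻¹ * n * phi G g) * (phi G g)⁻¹ = n
            group
          map_mul' := by
            intro n n'; apply Subtype.ext
            show phi G g * ((n : Perm {x : G // orderOf x = 2}) *
              (n' : Perm {x : G // orderOf x = 2})) * (phi G g)⁻¹ =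
              (phi G g * n * (phi G g)⁻¹) * (phi G g * n' * (phi G g)⁻¹)
            group }
      have h1 : A.map ψ.toMonoidHom = A := Subgroup.characteristic_iff_map_eq.mp hAc ψ
      have h2 : ψ ⟨m, hm⟩ ∈ A := by
        rw [← h1]; exact ⟨⟨m, hm⟩, hmA, rfl⟩
      exact ⟨ψ ⟨m, hm⟩, h2, rfl⟩
    · obtain ⟨⟨m, hm⟩, hmA, hm1⟩ := A.bot_or_exists_ne_one.resolve_left hA1
      exact ⟨m, ⟨⟨m, hm⟩, hmA, rfl⟩, fun h => hm1 (Subtype.ext h)⟩
    · rintro _ ⟨m, hm, rfl⟩ _ ⟨n, hn, rfl⟩
      have h1 : (⟨m, hm⟩ : A) * ⟨n, hn⟩ = ⟨n, hn⟩ * ⟨m, hm⟩ := hAa.is_comm.comm _ _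
      have h2 := congrArg (fun z : A =>
        (((z : N.map (phi G)) : Perm {x : G // orderOf x = 2}))) h1
      exact h2
  have hrs : Group.IsSolvable (phi G).range := by
    have hpos : Nat.card (phi G).range ≠ 0 := Nat.card_pos.ne'
    obtain ⟨a, b, hab⟩ : ∃ a b : ℕ, Nat.card (phi G).range = 2 ^ a * 3 ^ b := by
      have h1 := Nat.factorization_prod_pow_eq_self hpos
      refine ⟨(Nat.card (phi G).range).factorization 2, (Nat.card (phi G).range).factorization 3, ?_⟩
      have hsub : (Nat.card (phi G).range).factorization.support ⊆ {2, 3} := by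
        intro r hr
        rw [Nat.support_factorization, Nat.mem_primeFactors] at hr
        have h3 := hrange r hr.1 hr.2.1
        have h2 := hr.1.two_le
        rw [Finset.mem_insert, Finset.mem_singleton]
        omega
      rw [Finsupp.prod_of_support_subset _ hsub _ (by simp), Finset.prod_pair (by norm_num)] at h1
      exact h1.symm
    exact Cfsg.Agent.S0144.result 2 3 a b Nat.prime_two Nat.prime_three hab
  exact solvable_of_ker_le_range (phi G).ker.subtype (phi G).rangeRestrict (by
    intro g hg
    rw [Subgroup.range_subtype]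
    have : phi G g = 1 := congrArg Subtype.val (show (phi G).rangeRestrict g = 1 from hg)
    exact this)

end Cfsg.Agent.H544.Pyr2
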