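import Cfsg.Agent.H544.PyrC
import Cfsg.Agent.H544.Pyr1
import Cfsg.Agent.H544.Pyr2

/-!
# Pyramidal groups: assembly (given the odd order theorem, Kazarin's theorem and the Mersenne case)
-/

set_option autoImplicit false

namespace Cfsg.Agent.H544.PyrD

theorem main (hM : PyrC.Mersenne.{0})
    (hFT : ∀ (K : Type) [Group K] [Finite K], Odd (Nat.card K) → Group.IsSolvable K)
    (hKaz : ∀ (G : Type) [Group G] [Finite G] (x : G) {p : ℕ}, p.Prime → ∀ k : ℕ,
      (ConjClasses.mk x).carrier.ncard = p ^ k →
        Group.IsSolvable ↥(Subgroup.normalClosure ({x} : Set G)))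
    (p k : ℕ) (hp : p.Prime) (hp2 : p ≠ 2) (hk : 1 ≤ k) :
    (∀ (G : Type) [Group G] [Finite G], Nat.card {x : G // orderOf x = 2} = p ^ k →
      (∀ x y : G, orderOf x = 2 → orderOf y = 2 → ∃ g : G, g * x * g⁻¹ = y) →
        Group.IsSolvable G) ↔ (Odd k ∨ p ^ k = 9) := by
  constructor
  · intro h
    by_contra hcon
    rw [not_or, Nat.not_odd_iff_even] at hcon
    exact Pyr1.not_solv p k hp hp2 hk hcon.1 hcon.2 h
  · intro h G _ _ hcard hconj
    have hK : ∀ t : G, orderOf t = 2 →
        Group.IsSolvable (Subgroup.normalClosure ({t} : Set G)) := by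
      intro t ht
      apply hKaz G t hp k
      rw [← hcard]
      have : (ConjClasses.mk t).carrier = {x : G | orderOf x = 2} := by
        ext x
        rw [ConjClasses.mem_carrier_iff_mk_eq, ConjClasses.mk_eq_mk_iff_isConj]
        constructor
        · intro hx
          obtain ⟨g, hg⟩ := isConj_iff.mp hx.symm
          show orderOf x = 2
          rw [← hg, ← MulAut.conj_apply, MulEquiv.orderOf_eq, ht]
        · intro hx
          exact (isConj_iff.mpr (hconj t x ht hx)).symm
      rw [this]
      rfl
    rcases h with h | h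
    · exact PyrC.red hM p k hp hp2 h hcard hconj hFT hK
    · rw [h] at hcard
      exact Pyr2.nine (fun K hKo => hFT K hKo) hK hcard hconj

end Cfsg.Agent.H544.PyrD
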