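import Cfsg.Agent.H544.MillerC

/-!
# Lemmas for Miller's bound on transitivity (degree `kp + r`)

Part D: the case `p ≥ 5`.
-/

set_option autoImplicit false

namespace Cfsg.Agent.H544.MillerD

open Equiv Equiv.Perm MulAction Cfsg.Agent.H544.MillerA Cfsg.Agent.H544.MillerB
  Cfsg.Agent.H544.MillerC
open scoped Pointwise

variable {α : Type*} [Fintype α] [DecidableEq α]

/-- The normalizer of `P` in `G`. -/
def norm (G P : Subgroup (Perm α)) : Subgroup (Perm α) where
  carrier := {g | g ∈ G ∧ ∀ h, h ∈ P ↔ g * h * g⁻¹ ∈ P}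
  mul_mem' := by
    rintro a b ⟨ha, ha'⟩ ⟨hb, hb'⟩
    refine ⟨mul_mem ha hb, fun h => ?_⟩
    have e : a * b * h * (a * b)⁻¹ = a * (b * h * b⁻¹) * a⁻¹ := by group
    rw [e, ← ha', ← hb']
  one_mem' := ⟨one_mem _, fun h => by simp⟩
  inv_mem' := by
    rintro a ⟨ha, ha'⟩
    refine ⟨inv_mem ha, fun h => ?_⟩
    rw [ha' (a⁻¹ * h * a⁻¹⁻¹)]
    have e : a * (a⁻¹ * h * a⁻¹⁻¹) * a⁻¹ = h := by group
    rw [e]

theorem orbit_smul {G P : Subgroup (Perm α)} (n : norm G P) (x : α) :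
    n • (MulAction.orbit P x : Set α) = MulAction.orbit P ((n : Perm α) x) := by
  ext y
  rw [Set.mem_smul_set]
  constructor
  · rintro ⟨_, ⟨⟨h, hh⟩, rfl⟩, rfl⟩
    refine ⟨⟨n * h * (n : Perm α)⁻¹, (n.2.2 h).mp hh⟩, ?_⟩
    show ((n : Perm α) * h * (n : Perm α)⁻¹) ((n : Perm α) x) = (n : Perm α) (h x)
    simp
  · rintro ⟨⟨h, hh⟩, rfl⟩
    have h1 : (n : Perm α)⁻¹ * h * n ∈ P := by
      rw [n.2.2]
      have : (n : Perm α) * ((n : Perm α)⁻¹ * h * n) * (n : Perm α)⁻¹ = h := by group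
      rw [this]; exact hh
    refine ⟨((n : Perm α)⁻¹ * h * n) x, ⟨⟨_, h1⟩, rfl⟩, ?_⟩
    show (n : Perm α) (((n : Perm α)⁻¹ * h * n) x) = h ((n : Perm α) x)
    simp

/-- `F` is preserved by the normalizer. -/
theorem norm_F {G P : Subgroup (Perm α)} {F : Set α} {p : ℕ} (hp : p.Prime) (S : Setup p P F)
    (n : Perm α) (hn : n ∈ norm G P) (x : α) : x ∈ F ↔ n x ∈ F := by
  have key : ∀ m : Perm α, m ∈ norm G P → ∀ x, x ∈ F → m x ∈ F := by
    intro m hm x hx
    by_contra hmx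
    have h1 := S.orb _ hmx
    have h2 : MulAction.orbit P (m x) = {m x} := by
      ext y
      constructor
      · rintro ⟨⟨h, hh⟩, rfl⟩
        show h (m x) = m x
        have h3 : m⁻¹ * h * m ∈ P := by
          rw [hm.2]
          have : m * (m⁻¹ * h * m) * m⁻¹ = h := by group
          rw [this]; exact hh
        have h4 := S.fix x hx _ h3
        have h5 : m ((m⁻¹ * h * m) x) = m x := by rw [h4]
        simpa using h5
      · rintro rfl
        exact mem_orbit_self _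
    rw [h2, Nat.card_unique] at h1
    exact hp.one_lt.ne h1
  refine ⟨key n hn x, fun h => ?_⟩
  have := key n⁻¹ (inv_mem hn) _ h
  simpa using this

/-- The `P`-orbits outside `F`. -/
def orbs {G P : Subgroup (Perm α)} {F : Set α} {p : ℕ} (hp : p.Prime) (S : Setup p P F) :
    SubMulAction (norm G P) (Set α) where
  carrier := {s | ∃ x, x ∉ F ∧ s = (MulAction.orbit P x : Set α)}
  smul_mem' := by
    rintro n _ ⟨x, hx, rfl⟩
    exact ⟨(n : Perm α) x, fun h => hx ((norm_F hp S n n.2 x).mpr h), orbit_smul n x⟩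

theorem card_orbs {G P : Subgroup (Perm α)} {F : Set α} {p k : ℕ} (hp : p.Prime)
    (S : Setup p P F) (hF : Set.ncard Fᶜ = k * p) :
    Nat.card (orbs (G := G) hp S) ≤ k := by
  classical
  have : Fintype (orbs (G := G) hp S) := Fintype.ofFinite _
  let f : (Σ s : orbs (G := G) hp S, (s : Set α)) → (Fᶜ : Set α) := fun q => ⟨q.2.1, by
    obtain ⟨⟨s, x, hx, rfl⟩, ⟨y, ⟨h, hh⟩, rfl⟩⟩ := q
    intro hy
    apply hx
    have h1 : h (h x) = h x := S.fix _ hy h hh
    have h2 : h x = x := h.injective h1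
    rw [← h2]; exact hy⟩
  have hf : Function.Injective f := by
    rintro ⟨⟨s, x, hx, rfl⟩, ⟨y, hy⟩⟩ ⟨⟨s', x', hx', rfl⟩, ⟨y', hy'⟩⟩ hxy
    have h1 : y = y' := congrArg Subtype.val hxy
    subst h1
    have h2 : (MulAction.orbit P x : Set α) = MulAction.orbit P x' := by
      rw [← MulAction.orbit_eq_iff.mpr hy, ← MulAction.orbit_eq_iff.mpr hy']
    have h3 : (⟨MulAction.orbit P x, ⟨x, hx, rfl⟩⟩ : orbs (G := G) hp S) =
        ⟨MulAction.orbit P x', ⟨x', hx', rfl⟩⟩ := Subtype.ext h2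
    exact Sigma.subtype_ext h3 rfl
  have h1 := Nat.card_le_card_of_injective f hf
  rw [Nat.card_coe_set_eq, hF, Nat.card_sigma] at h1
  have h2 : ∀ s : orbs (G := G) hp S, Nat.card (s : Set α) = p := by
    rintro ⟨s, x, hx, rfl⟩
    exact S.orb x hx
  rw [Finset.sum_congr rfl (fun s _ => h2 s), Finset.sum_const, Finset.card_univ, smul_eq_mul,
    ← Nat.card_eq_fintype_card] at h1
  exact Nat.le_of_mul_le_mul_right h1 hp.pos

/-- The restriction homomorphism to `F`. -/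
def rho {G P : Subgroup (Perm α)} {F : Set α} {p : ℕ} (hp : p.Prime) (S : Setup p P F) :
    norm G P →* Perm F where
  toFun n := (n : Perm α).subtypePerm (fun x => (norm_F hp S n n.2 x).symm)
  map_one' := by ext x; rfl
  map_mul' a b := by ext x; rfl

theorem rho_apply {G P : Subgroup (Perm α)} {F : Set α} {p : ℕ} (hp : p.Prime) (S : Setup p P F)
    (n : norm G P) (x : F) : (rho hp S n x : α) = (n : Perm α) x := rfl

/-- The common hypotheses. -/
structure Ctx (G P : Subgroup (Perm α)) (F : Set α) (p k r : ℕ) : Prop where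
  hp : p.Prime
  S : Setup p P F
  PG : P ≤ G
  card : Set.ncard F = r
  cardc : Set.ncard Fᶜ = k * p
  surj : ∀ σ : Perm F, ∃ n ∈ norm G P, ∀ x : F, n x = σ x
  hG : IsMultiplyPretransitive G α (r + 1)
  hr : 3 ≤ r
  hk : 1 ≤ k
  hrk : k < r
  hp5 : 5 ≤ p

namespace Ctx

variable {G P : Subgroup (Perm α)} {F : Set α} {p k r : ℕ}

theorem cardF (C : Ctx G P F p k r) [Fintype F] : Fintype.card F = r := by
  rw [← Nat.card_eq_fintype_card, Nat.card_coe_set_eq, C.card]

theorem cardα (C : Ctx G P F p k r) : Fintype.card α = k * p + r := by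
  have := Set.ncard_add_ncard_compl F
  rw [C.card, C.cardc, Nat.card_eq_fintype_card] at this
  omega

theorem rho_surj (C : Ctx G P F p k r) : Function.Surjective (rho (G := G) C.hp C.S) := by
  intro σ
  obtain ⟨n, hn, hnx⟩ := C.surj σ
  exact ⟨⟨n, hn⟩, Equiv.ext (fun x => Subtype.ext (hnx x))⟩

/-- The final step. -/
theorem final (C : Ctx G P F p k r) (g : Perm α) (hg : g ∈ G) (hgP : ∀ h ∈ P, g * h = h * g)
    (hgo : ∀ x, x ∉ F → ∃ h ∈ P, g x = h x) (hgF : ∃ x ∈ F, g x ≠ x) :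
    alternatingGroup α ≤ G := by
  classical
  have hgN : g ∈ norm G P := by
    refine ⟨hg, fun h => ?_⟩
    constructor
    · intro hh
      rw [hgP h hh]; simpa using hh
    · intro hh
      have h1 := hgP _ hh
      have h2 : g * h = g * h * g⁻¹ * g := by group
      have h3 : g * (g * h * g⁻¹) = g * h := by rw [h1]; group
      have h4 : g * h * g⁻¹ = h := mul_left_cancel h3
      rw [← h4]; exact hh
  set m : Perm F := rho (G := G) C.hp C.S ⟨g, hgN⟩ with hm
  have hm1 : m ≠ 1 := by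
    obtain ⟨x, hx, hgx⟩ := hgF
    intro h
    apply hgx
    have := congrArg (fun f : Perm F => (f ⟨x, hx⟩ : α)) h
    exact this
  obtain ⟨a, b, hab, hcom⟩ := exists_swap (by rw [C.cardF]; exact C.hr) m hm1
  obtain ⟨n, hn⟩ := C.rho_surj (swap a b)
  set c : Perm α := g * n * g⁻¹ * (n : Perm α)⁻¹ with hc
  have hcN : c ∈ norm G P := mul_mem (mul_mem (mul_mem hgN n.2) (inv_mem hgN)) (inv_mem n.2)
  have hρc : rho C.hp C.S ⟨c, hcN⟩ = m * swap a b * m⁻¹ * swap a b := by
    have e : (⟨c, hcN⟩ : norm G P) = ⟨g, hgN⟩ * n * ⟨g, hgN⟩⁻¹ * n⁻¹ := rfl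
    rw [e, map_mul, map_mul, map_mul, map_inv, map_inv, hn, swap_inv]
  -- `g⁻¹` commutes with `P` and preserves the orbits
  have hgP' : ∀ h ∈ P, g⁻¹ * h = h * g⁻¹ := by
    intro h hh
    have := hgP h hh
    calc g⁻¹ * h = g⁻¹ * (h * g) * g⁻¹ := by group
      _ = g⁻¹ * (g * h) * g⁻¹ := by rw [this]
      _ = h * g⁻¹ := by group
  have hgo' : ∀ x, x ∉ F → ∃ h ∈ P, g⁻¹ x = h x := by
    intro x hx
    obtain ⟨h, hh, e⟩ := hgo x hx
    refine ⟨h⁻¹, inv_mem hh, ?_⟩
    rw [Perm.inv_eq_iff_eq]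
    have h1 := hgP' h hh
    have h2 : x = g⁻¹ (h x) := by rw [← e]; simp
    rw [← Perm.mul_apply, h1, Perm.mul_apply] at h2
    rw [← Perm.mul_apply, hgP _ (inv_mem hh), Perm.mul_apply, e]; simp
  -- `c` commutes with `P`
  have hcP : ∀ h ∈ P, c * h = h * c := by
    intro h hh
    have h1 : (n : Perm α)⁻¹ * h * n ∈ P := by
      rw [n.2.2]
      have : (n : Perm α) * ((n : Perm α)⁻¹ * h * n) * (n : Perm α)⁻¹ = h := by group
      rw [this]; exact hh
    have h2 := hgP' _ h1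
    calc c * h = g * n * (g⁻¹ * ((n : Perm α)⁻¹ * h * n)) * (n : Perm α)⁻¹ := by rw [hc]; group
      _ = g * n * (((n : Perm α)⁻¹ * h * n) * g⁻¹) * (n : Perm α)⁻¹ := by rw [h2]
      _ = (g * h) * n * g⁻¹ * (n : Perm α)⁻¹ := by group
      _ = (h * g) * n * g⁻¹ * (n : Perm α)⁻¹ := by rw [hgP h hh]
      _ = h * c := by rw [hc]; group
  have hco : ∀ x, x ∉ F → ∃ h ∈ P, c x = h x := by
    intro x hx
    have hy : (n : Perm α)⁻¹ x ∉ F := by
      rw [norm_F C.hp C.S n n.2]; simpa using hx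
    obtain ⟨h, hh, e⟩ := hgo' _ hy
    have h1 : ((n : Perm α) * g⁻¹ * (n : Perm α)⁻¹) x =
        ((n : Perm α) * h * (n : Perm α)⁻¹) x := by
      rw [Perm.mul_apply, Perm.mul_apply, e]; rfl
    have h2 : (n : Perm α) * h * (n : Perm α)⁻¹ ∈ P := (n.2.2 h).mp hh
    obtain ⟨h', hh', e'⟩ := hgo x hx
    refine ⟨(n : Perm α) * h * (n : Perm α)⁻¹ * h', mul_mem h2 hh', ?_⟩
    have e3 : c = g * ((n : Perm α) * g⁻¹ * (n : Perm α)⁻¹) := by rw [hc]; group
    rw [e3, Perm.mul_apply, h1, ← Perm.mul_apply, hgP _ h2, Perm.mul_apply, e',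
      ← Perm.mul_apply]
  -- the `p`-th power
  have hfix : ∀ x, x ∉ F → (c ^ p) x = x := fun x hx =>
    C.S.pow_fix C.hp hcP (hco x hx)
  have hne : c ^ p ≠ 1 := by
    intro h
    have h1 : (m * swap a b * m⁻¹ * swap a b) ^ p = 1 := by
      rw [← hρc, ← map_pow]
      have : (⟨c, hcN⟩ : norm G P) ^ p = 1 := Subtype.ext h
      rw [this, map_one]
    have h2 : (m * swap a b * m⁻¹ * swap a b) ^ 6 = 1 := by
      rw [conj_swap_mul]; exact swap_mul_swap_pow_six _ _ _ _
    have h3 : Nat.Coprime p 6 := by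
      rw [show 6 = 2 * 3 by norm_num, Nat.coprime_mul_iff_right]
      constructor
      · exact (Nat.coprime_primes C.hp Nat.prime_two).mpr (by have := C.hp5; omega)
      · exact (Nat.coprime_primes C.hp Nat.prime_three).mpr (by have := C.hp5; omega)
    have h4 := orderOf_dvd_of_pow_eq_one h1
    have h5 := orderOf_dvd_of_pow_eq_one h2
    have h6 : orderOf (m * swap a b * m⁻¹ * swap a b) ∣ 1 := by
      rw [← h3]; exact Nat.dvd_gcd h4 h5
    exact hcom (orderOf_eq_one_iff.mp (Nat.dvd_one.mp h6))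
  have hsupp : (c ^ p).support.card < 2 * (r + 1) - 2 := by
    have h1 : (c ^ p).support ⊆ F.toFinset := by
      intro x hx
      rw [Equiv.Perm.mem_support] at hx
      rw [Set.mem_toFinset]
      by_contra hxF
      exact hx (hfix x hxF)
    have h2 := Finset.card_le_card h1
    have h3 : F.toFinset.card = r := by
      rw [Set.toFinset_card, C.cardF]
    have := C.hr
    omega
  have hr := C.hr
  have hk := C.hk
  have hp := C.hp.pos
  exact (Cfsg.Agent.S0711.result G (k := r + 1) (by omega)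
    (by rw [C.cardα]; have : 1 ≤ k * p := Nat.mul_pos hk hp; omega) C.hG (c ^ p)
    (pow_mem hcN.1 p) hne hsupp).2

end Ctx

end Cfsg.Agent.H544.MillerD
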