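import Mathlib
import Cfsg.Agent.Lib.SolvableMinNormal

/-!
# A quaternion group acting on a group of odd order

If the automorphisms `α, β` of the finite solvable group `O` of odd order satisfy `α² = β² =: τ` and
`α β α⁻¹ = β⁻¹`, then `|O| = |C_O(τ)| m²` for some `m`.
-/

set_option autoImplicit false

namespace Cfsg.Agent.H544.PyrA

/-- The fixed points of an automorphism. -/
def fix {O : Type*} [Group O] (τ : MulAut O) : Subgroup O where
  carrier := {x | τ x = x}
  mul_mem' := by
    intro a b ha hb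
    show τ (a * b) = a * b
    have ha' : τ a = a := ha
    have hb' : τ b = b := hb
    rw [map_mul, ha', hb']
  one_mem' := map_one τ
  inv_mem' := by
    intro a ha
    show τ a⁻¹ = a⁻¹
    have ha' : τ a = a := ha
    rw [map_inv, ha']

theorem mem_fix {O : Type*} [Group O] {τ : MulAut O} {x : O} : x ∈ fix τ ↔ τ x = x := Iff.rfl

/-- Two anticommuting square roots of `-1`. -/
theorem even_finrank {r : ℕ} [Fact r.Prime] (hr : r ≠ 2) {W : Type*} [AddCommGroup W]
    [Module (ZMod r) W] [FiniteDimensional (ZMod r) W] (A B : W →ₗ[ZMod r] W)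
    (hA : A ∘ₗ A = -LinearMap.id) (hB : B ∘ₗ B = -LinearMap.id) (hAB : A ∘ₗ B = -(B ∘ₗ A)) :
    Even (Module.finrank (ZMod r) W) := by
  have h1 := congrArg LinearMap.det hAB
  rw [LinearMap.det_comp, ← neg_one_smul (ZMod r), LinearMap.det_smul, LinearMap.det_comp,
    mul_comm (LinearMap.det B)] at h1
  have hdA : LinearMap.det A ≠ 0 := by
    intro h0
    have h2 := congrArg LinearMap.det hA
    rw [LinearMap.det_comp, h0, ← neg_one_smul (ZMod r), LinearMap.det_smul, LinearMap.det_id,
      mul_one, zero_mul] at h2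
    exact pow_ne_zero _ (neg_ne_zero.mpr one_ne_zero) h2.symm
  have hdB : LinearMap.det B ≠ 0 := by
    intro h0
    have h2 := congrArg LinearMap.det hB
    rw [LinearMap.det_comp, h0, ← neg_one_smul (ZMod r), LinearMap.det_smul, LinearMap.det_id,
      mul_one, zero_mul] at h2
    exact pow_ne_zero _ (neg_ne_zero.mpr one_ne_zero) h2.symm
  have h3 : ((-1 : ZMod r)) ^ Module.finrank (ZMod r) W = 1 := by
    have h4 : LinearMap.det A * LinearMap.det B ≠ 0 := mul_ne_zero hdA hdB
    have h5 : ((-1 : ZMod r)) ^ Module.finrank (ZMod r) W * (LinearMap.det A * LinearMap.det B) =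
        1 * (LinearMap.det A * LinearMap.det B) := by rw [one_mul]; exact h1.symm
    exact mul_right_cancel₀ h4 h5
  by_contra hodd
  rw [Nat.not_even_iff_odd] at hodd
  rw [hodd.neg_one_pow] at h3
  have h2 : (2 : ZMod r) = 0 := by
    have : (2 : ZMod r) = 1 - (-1) := by norm_num
    rw [this, h3, sub_self]
  have h6 : ((2 : ℕ) : ZMod r) = 0 := by exact_mod_cast h2
  rw [ZMod.natCast_eq_zero_iff] at h6
  have := Nat.le_of_dvd (by norm_num) h6
  have h7 := (Fact.out : r.Prime).two_le
  omega

/-- The same, for additive groups. -/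
theorem card_square {r : ℕ} [Fact r.Prime] (hr : r ≠ 2) {W : Type*} [AddCommGroup W] [Finite W]
    (hexp : ∀ x : W, r • x = 0) (A B : W →+ W) (hA : ∀ x, A (A x) = -x) (hB : ∀ x, B (B x) = -x)
    (hAB : ∀ x, A (B x) = -(B (A x))) : ∃ m : ℕ, Nat.card W = m ^ 2 := by
  letI : Module (ZMod r) W := AddCommGroup.zmodModule (n := r) hexp
  have hfd : FiniteDimensional (ZMod r) W := inferInstance
  have hev : Even (Module.finrank (ZMod r) W) :=
    even_finrank hr (A.toZModLinearMap r) (B.toZModLinearMap r)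
      (by apply LinearMap.ext; intro x; exact hA x)
      (by apply LinearMap.ext; intro x; exact hB x)
      (by apply LinearMap.ext; intro x; exact hAB x)
  obtain ⟨d, hd⟩ := hev
  refine ⟨r ^ d, ?_⟩
  have : Fintype W := Fintype.ofFinite W
  rw [Nat.card_eq_fintype_card, Module.card_eq_pow_finrank (K := ZMod r), ZMod.card, hd]
  ring

/-- The abelian case. -/
theorem abelian_case {r : ℕ} [Fact r.Prime] (hr : r ≠ 2) {V : Type*} [CommGroup V] [Finite V]
    (hexp : ∀ v : V, v ^ r = 1) (α β : MulAut V) (hαβ : α * α = β * β)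
    (hconj : α * β * α⁻¹ = β⁻¹) : ∃ m : ℕ, Nat.card V = Nat.card (fix (α * α)) * m ^ 2 := by
  set τ := α * α with hτ
  have hττ : τ * τ = 1 := by
    have h1 : α * τ * α⁻¹ = τ := by rw [hτ]; group
    have h2 : α * τ * α⁻¹ = τ⁻¹ := by
      calc α * τ * α⁻¹ = (α * β * α⁻¹) * (α * β * α⁻¹) := by rw [hαβ]; group
        _ = (β * β)⁻¹ := by rw [hconj]; group
        _ = τ⁻¹ := by rw [hαβ]
    rw [h1] at h2
    calc τ * τ = τ * τ⁻¹ := by rw [← h2]
      _ = 1 := mul_inv_cancel _
  have hττ' : ∀ v, τ (τ v) = v := by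
    intro v
    rw [← MulAut.mul_apply, hττ]; rfl
  -- the inverted elements
  let W : Subgroup V :=
    { carrier := {x | τ x = x⁻¹}
      mul_mem' := by
        intro a b ha hb
        show τ (a * b) = (a * b)⁻¹
        have ha' : τ a = a⁻¹ := ha
        have hb' : τ b = b⁻¹ := hb
        rw [map_mul, ha', hb', mul_inv]
      one_mem' := by show τ 1 = 1⁻¹; simp
      inv_mem' := by
        intro a ha
        show τ a⁻¹ = a⁻¹⁻¹
        have ha' : τ a = a⁻¹ := ha
        rw [map_inv, ha'] }
  have hW : ∀ x, x ∈ W ↔ τ x = x⁻¹ := fun x => Iff.rfl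
  -- the square root exponent
  have hodd : Odd r := (Fact.out : r.Prime).odd_of_ne_two hr
  obtain ⟨c, hc⟩ := hodd
  have hsq : ∀ v : V, (v ^ (c + 1)) * (v ^ (c + 1)) = v := by
    intro v
    rw [← pow_add, show c + 1 + (c + 1) = (2 * c + 1) + 1 by ring, ← hc, pow_succ, hexp, one_mul]
  -- |V| = |fix| |W|
  have hcard : Nat.card V = Nat.card (fix τ) * Nat.card W := by
    have hdisj : Disjoint (fix τ) W := by
      rw [Subgroup.disjoint_def]
      intro x hx hx'
      rw [mem_fix] at hx
      rw [hW, hx] at hx'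
      -- x = x⁻¹
      have h1 : x * x = 1 := by
        calc x * x = x * x⁻¹ := by rw [← hx']
          _ = 1 := mul_inv_cancel _
      calc x = (x ^ (c + 1)) * (x ^ (c + 1)) := (hsq x).symm
        _ = (x * x) ^ (c + 1) := by rw [mul_pow]
        _ = 1 := by rw [h1, one_pow]
    have hsup : fix τ ⊔ W = ⊤ := by
      rw [eq_top_iff]
      intro v _
      have h1 : v = (v * τ v) ^ (c + 1) * (v * (τ v)⁻¹) ^ (c + 1) := by
        rw [← mul_pow]
        have : v * τ v * (v * (τ v)⁻¹) = v * v := by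
          rw [mul_mul_mul_comm, mul_inv_cancel, mul_one]
        rw [this, mul_pow, hsq]
      rw [h1]
      apply Subgroup.mul_mem_sup
      · rw [mem_fix, map_pow, map_mul, hττ', mul_comm]
      · rw [hW, map_pow, map_mul, map_inv, hττ', ← inv_pow, mul_inv, inv_inv, mul_comm]
    have h2 : (fix τ).IsComplement' W := by
      apply Subgroup.isComplement'_of_disjoint_and_mul_eq_univ hdisj
      rw [← Subgroup.normal_mul, hsup, Subgroup.coe_top]
    exact h2.card_mul.symm
  -- `W` as a module
  have hατ : ∀ w, τ (α w) = α (τ w) := by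
    intro w
    rw [← MulAut.mul_apply, ← MulAut.mul_apply, hτ, mul_assoc]
  have hβτ : ∀ w, τ (β w) = β (τ w) := by
    intro w
    rw [← MulAut.mul_apply, ← MulAut.mul_apply, hαβ, mul_assoc]
  let αW : W →* W :=
    { toFun := fun w => ⟨α w, by rw [hW, hατ, (hW _).mp w.2, map_inv]⟩
      map_one' := by apply Subtype.ext; exact map_one α
      map_mul' := by intro a b; apply Subtype.ext; exact map_mul α _ _ }
  let βW : W →* W :=
    { toFun := fun w => ⟨β w, by rw [hW, hβτ, (hW _).mp w.2, map_inv]⟩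
      map_one' := by apply Subtype.ext; exact map_one β
      map_mul' := by intro a b; apply Subtype.ext; exact map_mul β _ _ }
  have hαα : ∀ w : W, αW (αW w) = w⁻¹ := by
    intro w
    apply Subtype.ext
    show α (α w) = (w : V)⁻¹
    rw [← MulAut.mul_apply, ← hτ, (hW _).mp w.2]
  have hββ : ∀ w : W, βW (βW w) = w⁻¹ := by
    intro w
    apply Subtype.ext
    show β (β w) = (w : V)⁻¹
    rw [← MulAut.mul_apply, ← hαβ, (hW _).mp w.2]
  have hanti : ∀ w : W, αW (βW w) = (βW (αW w))⁻¹ := by
    intro w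
    have h1 : α (β (w : V)) = β⁻¹ (α w) := by
      rw [← hconj]
      show α (β w) = α (β (α⁻¹ (α w)))
      rw [MulAut.inv_apply_self]
    have h2 : ((βW (αW w))⁻¹ : W) = αW (βW w) := by
      apply Subtype.ext
      show (β (α (w : V)))⁻¹ = α (β w)
      rw [h1]
      apply β.injective
      rw [MulAut.apply_inv_self, map_inv]
      have := congrArg Subtype.val (hββ (αW w))
      have h3 : β (β (α (w : V))) = (α w)⁻¹ := this
      rw [h3, inv_inv]
    exact h2.symm
  obtain ⟨m, hm⟩ := card_square (W := Additive W) hr (by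
    intro x
    apply Additive.toMul.injective
    show (Additive.toMul x) ^ r = 1
    apply Subtype.ext
    exact hexp _) (MonoidHom.toAdditive αW) (MonoidHom.toAdditive βW)
    (fun x => congrArg Additive.ofMul (hαα (Additive.toMul x)))
    (fun x => congrArg Additive.ofMul (hββ (Additive.toMul x)))
    (fun x => congrArg Additive.ofMul (hanti (Additive.toMul x)))
  refine ⟨m, ?_⟩
  rw [hcard, ← hm]
  rfl

/-- Fixed points in a quotient. -/
theorem card_fix {O : Type*} [Group O] [Finite O] (hodd : Odd (Nat.card O)) (V : Subgroup O)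
    [V.Normal] (τ : MulAut O) (hττ : τ * τ = 1) (hV : V.map τ.toMonoidHom = V)
    (τV : MulAut V) (hτV : ∀ v : V, (τV v : O) = τ v) :
    Nat.card (fix τ) = Nat.card (fix (QuotientGroup.congr V V τ hV : MulAut (O ⧸ V))) *
      Nat.card (fix τV) := by
  have hττ' : ∀ v, τ (τ v) = v := by
    intro v
    rw [← MulAut.mul_apply, hττ]; rfl
  let f : fix τ →* fix (QuotientGroup.congr V V τ hV : MulAut (O ⧸ V)) :=
    { toFun := fun x => ⟨QuotientGroup.mk (x : O), by
        rw [mem_fix]
        show (QuotientGroup.mk (τ (x : O)) : O ⧸ V) = QuotientGroup.mk (x : O)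
        have : τ (x : O) = x := x.2
        rw [this]⟩
      map_one' := rfl
      map_mul' := fun _ _ => rfl }
  have hf : Function.Surjective f := by
    rintro ⟨q, hq⟩
    obtain ⟨x, rfl⟩ := QuotientGroup.mk_surjective q
    rw [mem_fix] at hq
    have h1 : (QuotientGroup.mk (τ x) : O ⧸ V) = QuotientGroup.mk x := hq
    have h2 : x⁻¹ * τ x ∈ V := QuotientGroup.eq.mp h1.symm
    set y := x⁻¹ * τ x with hy
    have hτy : τ y = y⁻¹ := by rw [hy, map_mul, map_inv, hττ', mul_inv_rev, inv_inv]
    have hyo : Odd (orderOf y) := Odd.of_dvd_nat hodd (orderOf_dvd_natCard y)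
    obtain ⟨c, hc⟩ := hyo
    set v := y ^ (c + 1) with hv
    have hvv : v * v = y := by
      rw [hv, ← pow_add, show c + 1 + (c + 1) = (2 * c + 1) + 1 by ring, ← hc, pow_succ,
        pow_orderOf_eq_one, one_mul]
    have hτv : τ v = v⁻¹ := by rw [hv, map_pow, hτy, inv_pow]
    refine ⟨⟨x * v, ?_⟩, ?_⟩
    · rw [mem_fix, map_mul, hτv]
      calc τ x * v⁻¹ = x * (x⁻¹ * τ x) * v⁻¹ := by group
        _ = x * (v * v) * v⁻¹ := by rw [hvv]
        _ = x * v := by group
    · apply Subtype.ext
      show (QuotientGroup.mk (x * v) : O ⧸ V) = QuotientGroup.mk x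
      rw [eq_comm, QuotientGroup.eq]
      rw [inv_mul_cancel_left]
      exact pow_mem h2 _
  have hker : Nat.card f.ker = Nat.card (fix τV) := by
    apply Nat.card_congr
    exact
      { toFun := fun x => ⟨⟨x.1.1, by
            have h1 : f x.1 = 1 := x.2
            have h2 : (QuotientGroup.mk (x.1.1 : O) : O ⧸ V) = 1 := congrArg Subtype.val h1
            exact (QuotientGroup.eq_one_iff _).mp h2⟩, by
            rw [mem_fix]
            apply Subtype.ext
            rw [hτV]
            exact x.1.2⟩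
        invFun := fun v => ⟨⟨v.1.1, by
            rw [mem_fix, ← hτV]
            exact congrArg Subtype.val v.2⟩, by
            show f _ = 1
            apply Subtype.ext
            exact (QuotientGroup.eq_one_iff _).mpr v.1.2⟩
        left_inv := fun _ => rfl
        right_inv := fun _ => rfl }
  rw [← hker]
  have h1 := Subgroup.card_mul_index f.ker
  rw [Subgroup.index_ker, MonoidHom.range_eq_top.mpr hf, Nat.card_congr Subgroup.topEquiv.toEquiv]
    at h1
  rw [← h1, mul_comm]

universe u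

/-- The general case. -/
theorem main_aux : ∀ n : ℕ, ∀ (O : Type u) [Group O] [Finite O] [Group.IsSolvable O],
    Odd (Nat.card O) → Nat.card O = n → ∀ (α β : MulAut O), α * α = β * β → α * β * α⁻¹ = β⁻¹ →
    ∃ m : ℕ, Nat.card O = Nat.card (fix (α * α)) * m ^ 2 := by
  intro n
  induction n using Nat.strong_induction_on with
  | _ n ih =>
  intro O _ _ _ hodd hn α β hαβ hconj
  rcases subsingleton_or_nontrivial O with hO | hO
  · refine ⟨1, ?_⟩
    have h1 : Nat.card O = 1 := Nat.card_unique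
    have h2 : Nat.card (fix (α * α)) = 1 := by
      have : Subsingleton (fix (α * α)) := inferInstance
      exact Nat.card_unique
    rw [h1, h2]; norm_num
  set τ := α * α with hτ
  have hττ : τ * τ = 1 := by
    have h1 : α * τ * α⁻¹ = τ := by rw [hτ]; group
    have h2 : α * τ * α⁻¹ = τ⁻¹ := by
      calc α * τ * α⁻¹ = (α * β * α⁻¹) * (α * β * α⁻¹) := by rw [hαβ]; group
        _ = (β * β)⁻¹ := by rw [hconj]; group
        _ = τ⁻¹ := by rw [hαβ]
    rw [h1] at h2
    calc τ * τ = τ * τ⁻¹ := by rw [← h2]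
      _ = 1 := mul_inv_cancel _
  obtain ⟨r, hr, N, hNc, hNa, hNp, hN1⟩ :=
    Cfsg.Agent.Lib.SolvableMinNormal.exists_characteristic_pgroup (G := O)
  have : Fact r.Prime := ⟨hr⟩
  -- the elements of order `r`
  have hNcomm : ∀ x ∈ N, ∀ y ∈ N, x * y = y * x := by
    intro x hx y hy
    exact congrArg Subtype.val (hNa.is_comm.comm (⟨x, hx⟩ : N) ⟨y, hy⟩)
  let V : Subgroup O :=
    { carrier := {x | x ∈ N ∧ x ^ r = 1}
      mul_mem' := by
        rintro x y ⟨hx, hx'⟩ ⟨hy, hy'⟩
        refine ⟨mul_mem hx hy, ?_⟩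
        have hc : Commute x y := hNcomm x hx y hy
        rw [hc.mul_pow, hx', hy', one_mul]
      one_mem' := ⟨one_mem _, one_pow _⟩
      inv_mem' := by
        rintro x ⟨hx, hx'⟩
        exact ⟨inv_mem hx, by rw [inv_pow, hx', inv_one]⟩ }
  have hV : ∀ x, x ∈ V ↔ x ∈ N ∧ x ^ r = 1 := fun x => Iff.rfl
  have hVchar : ∀ φ : MulAut O, V.map φ.toMonoidHom = V := by
    have key : ∀ φ : MulAut O, V.map φ.toMonoidHom ≤ V := by
      rintro φ _ ⟨x, hx, rfl⟩
      rw [hV]
      have h1 : N.map φ.toMonoidHom = N := Subgroup.characteristic_iff_map_eq.mp hNc φ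
      refine ⟨by rw [← h1]; exact ⟨x, hx.1, rfl⟩, ?_⟩
      rw [← map_pow, hx.2, map_one]
    intro φ
    apply le_antisymm (key φ)
    intro x hx
    refine ⟨φ⁻¹ x, key φ⁻¹ ⟨x, hx, rfl⟩, ?_⟩
    show φ (φ⁻¹ x) = x
    rw [MulAut.apply_inv_self]
  have hVn : V.Normal := by
    refine ⟨fun x hx g => ?_⟩
    have h1 := hVchar (MulAut.conj g)
    have h2 : MulAut.conj g x ∈ V.map (MulAut.conj g).toMonoidHom := ⟨x, hx, rfl⟩
    rw [h1] at h2
    exact h2
  have hV1 : V ≠ ⊥ := by
    obtain ⟨x, hx, hx1⟩ := N.bot_or_exists_ne_one.resolve_left hN1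
    have h1 : r ∣ Nat.card N := by
      obtain ⟨k, hk⟩ := IsPGroup.iff_card.mp hNp
      have hk0 : k ≠ 0 := by
        rintro rfl
        rw [pow_zero, Subgroup.card_eq_one] at hk
        exact hN1 hk
      rw [hk]; exact dvd_pow_self r hk0
    obtain ⟨y, hy⟩ := exists_prime_orderOf_dvd_card' r h1
    intro hbot
    have h2 : (y : O) ∈ V := by
      refine ⟨y.2, ?_⟩
      rw [← hy, ← Subgroup.orderOf_coe, pow_orderOf_eq_one]
    rw [hbot, Subgroup.mem_bot] at h2
    have h3 : y = 1 := Subtype.ext h2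
    rw [h3, orderOf_one] at hy
    rw [← hy] at hr
    exact Nat.not_prime_one hr
  have hr2 : r ≠ 2 := by
    rintro rfl
    obtain ⟨x, hx, hx1⟩ := V.bot_or_exists_ne_one.resolve_left hV1
    have h1 : orderOf x = 2 := orderOf_eq_prime hx.2 hx1
    have h2 := Odd.of_dvd_nat hodd (orderOf_dvd_natCard x)
    rw [h1] at h2
    exact absurd h2 (by decide)
  -- the restrictions
  have hmem : ∀ (φ : MulAut O), ∀ v ∈ V, φ v ∈ V := by
    intro φ v hv
    have h1 := hVchar φ
    have h2 : φ v ∈ V.map φ.toMonoidHom := ⟨v, hv, rfl⟩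
    rw [h1] at h2
    exact h2
  let res : MulAut O →* MulAut V :=
    { toFun := fun φ =>
        { toFun := fun v => ⟨φ v, hmem φ v v.2⟩
          invFun := fun v => ⟨φ⁻¹ v, hmem φ⁻¹ v v.2⟩
          left_inv := by intro v; apply Subtype.ext; exact MulAut.inv_apply_self _ _ _
          right_inv := by intro v; apply Subtype.ext; exact MulAut.apply_inv_self _ _ _
          map_mul' := by intro v w; apply Subtype.ext; exact map_mul φ _ _ }
      map_one' := by ext v; rfl
      map_mul' := by intro φ ψ; ext v; rfl }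
  let quo : MulAut O →* MulAut (O ⧸ V) :=
    { toFun := fun φ => QuotientGroup.congr V V φ (hVchar φ)
      map_one' := by
        ext q
        obtain ⟨x, rfl⟩ := QuotientGroup.mk_surjective q
        rfl
      map_mul' := by
        intro φ ψ
        ext q
        obtain ⟨x, rfl⟩ := QuotientGroup.mk_surjective q
        rfl }
  have hVodd : Odd (Nat.card V) := Odd.of_dvd_nat hodd (Subgroup.card_subgroup_dvd_card V)
  letI : CommGroup V := { (inferInstance : Group V) with
    mul_comm := by
      intro a b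
      apply Subtype.ext
      exact hNcomm _ a.2.1 _ b.2.1 }
  have hVexp : ∀ v : V, v ^ r = 1 := by
    intro v
    apply Subtype.ext
    exact v.2.2
  obtain ⟨m₂, hm₂⟩ := abelian_case (V := V) hr2 hVexp (res α) (res β)
    (by rw [← map_mul, ← map_mul, ← hαβ]) (by rw [← map_inv, ← map_mul, ← map_mul, hconj, map_inv])
  have hcardq : Nat.card O = Nat.card (O ⧸ V) * Nat.card V := Subgroup.card_eq_card_quotient_mul_card_subgroup V
  have hVgt : 1 < Nat.card V := by
    rw [Finite.one_lt_card_iff_nontrivial, Subgroup.nontrivial_iff_ne_bot]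
    exact hV1
  have hqpos : 0 < Nat.card (O ⧸ V) := Nat.card_pos
  have hlt : Nat.card (O ⧸ V) < n := by
    rw [← hn, hcardq]
    nlinarith
  have hqs : Group.IsSolvable (O ⧸ V) := inferInstance
  have hqodd : Odd (Nat.card (O ⧸ V)) := Odd.of_dvd_nat hodd (by rw [hcardq]; exact Dvd.intro _ rfl)
  obtain ⟨m₁, hm₁⟩ := ih _ hlt (O ⧸ V) hqodd rfl (quo α) (quo β)
    (by rw [← map_mul, ← map_mul, ← hαβ]) (by rw [← map_inv, ← map_mul, ← map_mul, hconj, map_inv])
  rw [← map_mul, ← hτ] at hm₁ hm₂
  have hfix := card_fix hodd V τ hττ (hVchar τ) (res τ) (fun _ => rfl)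
  refine ⟨m₁ * m₂, ?_⟩
  rw [hcardq, hm₁, hm₂, hfix]
  show Nat.card (fix (quo τ)) * m₁ ^ 2 * (Nat.card (fix (res τ)) * m₂ ^ 2) =
    Nat.card (fix (quo τ)) * Nat.card (fix (res τ)) * (m₁ * m₂) ^ 2
  ring

end Cfsg.Agent.H544.PyrA
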