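import Cfsg.Agent.H544.PyrA
import Cfsg.Agent.Lib.Cores
import Cfsg.Agent.Solvable.UniqueOrderP
import Mathlib.GroupTheory.Transfer

/-!
# Pyramidal groups: the reduction
-/

set_option autoImplicit false

namespace Cfsg.Agent.H544.PyrB

open Cfsg

/-- A quaternion subgroup acting on a normal subgroup of odd order. -/
theorem quat_index {G : Type*} [Group G] [Finite G] (O : Subgroup G) [O.Normal]
    (hO : Odd (Nat.card O)) (hs : Group.IsSolvable O) {i j : G} (hij : i * i = j * j)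
    (hc : i * j * i⁻¹ = j⁻¹) :
    ∃ m : ℕ, Nat.card O =
      Nat.card (O ⊓ Subgroup.centralizer {i * i} : Subgroup G) * m ^ 2 := by
  let c : G →* MulAut O := MulAut.conjNormal
  obtain ⟨m, hm⟩ := PyrA.main_aux _ O hO rfl (c i) (c j) (by rw [← map_mul, ← map_mul, hij])
    (by rw [← map_inv, ← map_mul, ← map_mul, hc, map_inv])
  refine ⟨m, ?_⟩
  rw [hm, ← map_mul]
  congr 1
  apply Nat.card_congr
  exact
    { toFun := fun x => ⟨x.1.1, x.1.2, by
        show (x.1.1 : G) ∈ Subgroup.centralizer {i * i}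
        rw [Subgroup.mem_centralizer_singleton_iff]
        have h1 : c (i * i) x.1 = x.1 := x.2
        have h2 : (i * i) * (x.1 : G) * (i * i)⁻¹ = x.1 := by
          have := congrArg Subtype.val h1
          rwa [MulAut.conjNormal_apply] at this
        rw [mul_inv_eq_iff_eq_mul] at h2
        exact h2.symm⟩
      invFun := fun x => ⟨⟨x.1, x.2.1⟩, by
        rw [PyrA.mem_fix]
        apply Subtype.ext
        rw [MulAut.conjNormal_apply]
        have h1 := Subgroup.mem_centralizer_singleton_iff.mp x.2.2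
        show (i * i) * (x.1 : G) * (i * i)⁻¹ = x.1
        rw [← h1]; group⟩
      left_inv := fun _ => rfl
      right_inv := fun _ => rfl }

/-- Two involutions whose product has odd order are conjugate. -/
theorem conj_inv {G : Type*} [Group G] {s t : G} (hs : s * s = 1) (ht : t * t = 1)
    (h : Odd (orderOf (t * s))) : ∃ j : ℕ, (t * s) ^ j * s * ((t * s) ^ j)⁻¹ = t := by
  obtain ⟨k, hk⟩ := h
  refine ⟨k + 1, ?_⟩
  have hsi : s⁻¹ = s := inv_eq_of_mul_eq_one_right hs
  have hti : t⁻¹ = t := inv_eq_of_mul_eq_one_right ht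
  have h1 : ∀ j : ℕ, s * ((t * s) ^ j)⁻¹ = (t * s) ^ j * s := by
    intro j
    induction j with
    | zero => simp
    | succ j ih =>
      rw [pow_succ, mul_inv_rev, mul_inv_rev, hsi, hti]
      calc s * (s * t * ((t * s) ^ j)⁻¹) = (s * s) * t * ((t * s) ^ j)⁻¹ := by group
        _ = t * (s * s) * ((t * s) ^ j)⁻¹ := by rw [hs]; group
        _ = t * s * (s * ((t * s) ^ j)⁻¹) := by group
        _ = t * s * ((t * s) ^ j * s) := by rw [ih]
        _ = (t * s) ^ j * (t * s) * s := by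
            rw [← mul_assoc, ← pow_succ', pow_succ]
  rw [mul_assoc, h1, ← mul_assoc, ← pow_add]
  have h2 : (t * s) ^ (k + 1 + (k + 1)) = t * s := by
    have : k + 1 + (k + 1) = orderOf (t * s) + 1 := by omega
    rw [this, pow_succ, pow_orderOf_eq_one, one_mul]
  rw [h2, mul_assoc, hs, mul_one]

/-- Involutions of a quotient by a normal subgroup of odd order lift. -/
theorem lift_inv {G : Type*} [Group G] [Finite G] (O : Subgroup G) [O.Normal]
    (hO : Odd (Nat.card O)) (q : G ⧸ O) (hq : q * q = 1) :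
    ∃ x : G, x * x = 1 ∧ (QuotientGroup.mk x : G ⧸ O) = q := by
  obtain ⟨g, rfl⟩ := QuotientGroup.mk_surjective q
  have h1 : g * g ∈ O := by
    rw [← QuotientGroup.eq_one_iff]; exact hq
  have h2 : Odd (orderOf (g * g)) := by
    have h3 : orderOf (⟨g * g, h1⟩ : O) ∣ Nat.card O := orderOf_dvd_natCard _
    rw [Subgroup.orderOf_mk] at h3
    exact Odd.of_dvd_nat hO h3
  obtain ⟨c, hc⟩ := h2
  refine ⟨g ^ (2 * c + 1), ?_, ?_⟩
  · rw [← pow_add, ← two_mul, pow_mul, pow_two, ← hc, pow_orderOf_eq_one]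
  · rw [pow_succ, pow_mul]
    have h3 : (QuotientGroup.mk (g ^ 2) : G ⧸ O) = 1 := by rw [pow_two]; exact hq
    rw [QuotientGroup.mk_mul, QuotientGroup.mk_pow, h3, one_pow, one_mul]

/-- `2^a - 1 = p^j` with `a ≥ 2` forces `j = 1`. -/
theorem arith {a p j : ℕ} (hp : p.Prime) (ha : 2 ≤ a) (h : 2 ^ a = p ^ j + 1) : j = 1 := by
  have hpodd : Odd p := by
    rcases hp.eq_two_or_odd' with rfl | h1
    · exfalso
      rcases Nat.eq_zero_or_pos j with rfl | hj
      · have : 2 ^ 2 ≤ 2 ^ a := Nat.pow_le_pow_right (by norm_num) ha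
        rw [h] at this
        norm_num at this
      · have h2 : 2 ∣ 2 ^ j := dvd_pow_self 2 (by omega)
        have h3 : 2 ∣ 2 ^ a := dvd_pow_self 2 (by omega)
        omega
    · exact h1
  have h4 : 4 ∣ 2 ^ a := by
    have : 2 ^ 2 ∣ 2 ^ a := pow_dvd_pow 2 ha
    exact this
  have hjodd : Odd j := by
    by_contra hev
    rw [Nat.not_odd_iff_even] at hev
    obtain ⟨i, rfl⟩ := hev
    have h5 : p ^ (i + i) % 4 = 1 := by
      have h6 : Odd (p ^ i) := hpodd.pow
      obtain ⟨c, hc⟩ := h6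
      rw [pow_add, hc]
      have : (2 * c + 1) * (2 * c + 1) = 4 * (c * c + c) + 1 := by ring
      rw [this]; omega
    omega
  -- `p + 1` divides `p^j + 1`
  have h5 : p + 1 ∣ p ^ j + 1 := by
    have := hjodd.nat_add_dvd_pow_add_pow p 1
    rwa [one_pow] at this
  rw [← h] at h5
  obtain ⟨b, _, hb⟩ := (Nat.dvd_prime_pow Nat.prime_two).mp h5
  -- p = 2^b - 1
  have hp2 := hp.two_le
  have hb1 : 2 ≤ b := by
    by_contra hlt
    push Not at hlt
    interval_cases b <;> omega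
  by_contra hj1
  obtain ⟨i, hi⟩ := hjodd
  have hi1 : 1 ≤ i := by omega
  -- p^j + 1 ≡ 2^b mod 2^(b+1)
  have key : ∀ i : ℕ, ∃ c : ℕ, p ^ (2 * i + 1) + 1 = 2 ^ b * (2 * c + 1) := by
    intro i
    induction i with
    | zero => exact ⟨0, by rw [← hb]; ring⟩
    | succ i ih =>
      obtain ⟨c, hc⟩ := ih
      -- p^2 = (2^b - 1)^2 = 2^(2b) - 2^(b+1) + 1
      have h6 : p ^ (2 * (i + 1) + 1) + 1 = p ^ 2 * (p ^ (2 * i + 1) + 1) - (p ^ 2 - 1) := by
        have h7 : p ^ (2 * (i + 1) + 1) = p ^ 2 * p ^ (2 * i + 1) := by ring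
        rw [h7, mul_add, mul_one]
        have h8 : 1 ≤ p ^ 2 := Nat.one_le_pow _ _ (by omega)
        omega
      have h7 : p ^ 2 - 1 = 2 ^ b * (p - 1) := by
        rw [← hb]
        have : p ^ 2 = (p + 1) * (p - 1) + 1 := by
          obtain ⟨e, rfl⟩ : ∃ e, p = e + 1 := ⟨p - 1, by omega⟩
          simp only [Nat.add_sub_cancel]
          ring
        rw [this]; simp
      obtain ⟨d, hd⟩ := hpodd
      rw [h6, hc, h7]
      have h8 : p ^ 2 * (2 ^ b * (2 * c + 1)) - 2 ^ b * (p - 1) =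
          2 ^ b * (p ^ 2 * (2 * c + 1) - (p - 1)) := by
        rw [show p ^ 2 * (2 ^ b * (2 * c + 1)) = 2 ^ b * (p ^ 2 * (2 * c + 1)) by ring,
          ← Nat.mul_sub]
      rw [h8]
      have h9 : p - 1 = 2 * d := by omega
      rw [h9]
      have h10 : p ^ 2 * (2 * c + 1) = 2 * (2 * (d * d + d) * (2 * c + 1) + c) + 1 := by
        rw [hd]; ring
      rw [h10]
      refine ⟨2 * (d * d + d) * (2 * c + 1) + c - d, ?_⟩
      congr 1
      have h11 : d ≤ 2 * (d * d + d) * (2 * c + 1) := by nlinarith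
      omega
  obtain ⟨c, hc⟩ := key i
  rw [← hi, ← h] at hc
  -- 2^a = 2^b * odd
  have h6 : (2 * c + 1) ∣ 2 ^ a := Dvd.intro_left _ hc.symm
  have h7 : Nat.Coprime (2 * c + 1) (2 ^ a) := by
    apply Nat.Coprime.pow_right
    rw [Nat.coprime_two_right]
    exact ⟨c, rfl⟩
  have h8 : 2 * c + 1 = 1 := Nat.Coprime.eq_one_of_dvd h7 h6
  rw [h8, mul_one, ← hb, h] at hc
  have h9 : p ^ j = p ^ 1 := by rw [pow_one]; omega
  exact hj1 (Nat.pow_right_injective hp.two_le h9)

end Cfsg.Agent.H544.PyrB
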