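import Cfsg.Agent.H544.PyrB
import Cfsg.Agent.Blocks.Basic

/-!
# Pyramidal groups: the case of odd exponent
-/

set_option autoImplicit false

namespace Cfsg.Agent.H544.PyrC

open Cfsg Cfsg.Agent.H544.PyrB

universe u

/-- The statement of the theorem on groups whose involutions form `E#`, `2^a - 1` prime. -/
def Mersenne : Prop :=
  ∀ (G : Type u) [Group G] [Finite G] (E : Subgroup G), E.Normal → ∀ a : ℕ, 2 ≤ a →
    Nat.card E = 2 ^ a → (2 ^ a - 1).Prime → (∀ x : G, x * x = 1 → x ∈ E) →
    (∀ x ∈ E, x * x = 1) →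
    (∀ x ∈ E, ∀ y ∈ E, x ≠ 1 → y ≠ 1 → ∃ g : G, g * x * g⁻¹ = y) → Group.IsSolvable G

theorem solvable_of_quotient {G : Type u} [Group G] (O : Subgroup G) [O.Normal]
    (hO : Group.IsSolvable O) (hq : Group.IsSolvable (G ⧸ O)) : Group.IsSolvable G :=
  solvable_of_ker_le_range O.subtype (QuotientGroup.mk' O)
    (by rw [QuotientGroup.ker_mk', Subgroup.range_subtype])

/-- A group with cyclic Sylow 2-subgroups is solvable. -/
theorem solvable_of_cyclic {G : Type u} [Group G] [Finite G]
    (hFT : ∀ (K : Type u) [Group K] [Finite K], Odd (Nat.card K) → Group.IsSolvable K)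
    (P : Sylow 2 G) (hP : IsCyclic P) : Group.IsSolvable G := by
  by_cases h2 : 2 ∣ Nat.card G
  · have hmin : (Nat.card G).minFac = 2 := Nat.minFac_eq_two_iff _ |>.mpr h2
    have hc := IsCyclic.isComplement' hmin hP
    set K := (MonoidHom.transferSylow P (hP.normalizer_le_centralizer hmin)).ker with hK
    have hKn : K.Normal := inferInstance
    have hKo : Odd (Nat.card K) := by
      have h3 : K.index = Nat.card P := hc.symm.index_eq_card
      have h4 := K.card_mul_index
      rw [h3] at h4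
      have h5 := P.card_eq_multiplicity
      rw [← Nat.not_even_iff_odd, even_iff_two_dvd]
      intro h6
      obtain ⟨c, hc'⟩ := h6
      rw [h5, hc'] at h4
      have h7 : 2 ^ ((Nat.card G).factorization 2 + 1) ∣ Nat.card G := by
        generalize (Nat.card G).factorization 2 = e at *
        refine ⟨c, ?_⟩
        rw [← h4]; ring
      exact Nat.pow_succ_factorization_not_dvd Nat.card_pos.ne' Nat.prime_two h7
    apply solvable_of_quotient K (hFT K hKo)
    have h8 : IsPGroup 2 (G ⧸ K) := by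
      obtain ⟨n, hn⟩ := IsPGroup.iff_card.mp P.isPGroup'
      apply IsPGroup.of_card (n := n)
      rw [← hn, ← hc.symm.index_eq_card]
      rfl
    have : Group.IsNilpotent (G ⧸ K) := h8.isNilpotent
    infer_instance
  · apply hFT
    rw [← Nat.not_even_iff_odd, even_iff_two_dvd]
    exact h2

/-- The case of odd exponent. -/
theorem red (hM : Mersenne.{u}) {G : Type u} [Group G] [Finite G] (p k : ℕ) (hp : p.Prime)
    (hp2 : p ≠ 2) (hk : Odd k) (hcard : Nat.card {x : G // orderOf x = 2} = p ^ k)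
    (hconj : ∀ x y : G, orderOf x = 2 → orderOf y = 2 → ∃ g : G, g * x * g⁻¹ = y)
    (hFT : ∀ (K : Type u) [Group K] [Finite K], Odd (Nat.card K) → Group.IsSolvable K)
    (hKaz : ∀ t : G, orderOf t = 2 →
      Group.IsSolvable (Subgroup.normalClosure ({t} : Set G))) : Group.IsSolvable G := by
  have : Fact (Nat.Prime 2) := ⟨Nat.prime_two⟩
  have hord : ∀ {X : Type u} [Group X] (x : X), orderOf x = 2 ↔ x * x = 1 ∧ x ≠ 1 := by
    intro X _ x
    constructor
    · intro h
      refine ⟨?_, ?_⟩
      · have := pow_orderOf_eq_one x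
        rwa [h, pow_two] at this
      · rintro rfl
        rw [orderOf_one] at h; omega
    · rintro ⟨h1, h2⟩
      exact orderOf_eq_prime (by rw [pow_two, h1]) h2
  obtain ⟨⟨t, ht⟩⟩ : Nonempty {x : G // orderOf x = 2} := by
    rw [← Finite.card_pos_iff, hcard]
    exact pow_pos hp.pos k
  obtain ⟨htt, ht1⟩ := (hord t).mp ht
  -- the index of the centralizer
  have hidx : ∀ s : G, orderOf s = 2 → (Subgroup.centralizer ({s} : Set G)).index = p ^ k := by
    intro s hs
    rw [Cfsg.Agent.Blocks.Basic.index_centralizer_eq_ncard, ← hcard]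
    have : {h : G | IsConj s h} = {x : G | orderOf x = 2} := by
      ext x
      constructor
      · intro hx
        obtain ⟨g, hg⟩ := isConj_iff.mp hx
        show orderOf x = 2
        rw [← hg, ← MulAut.conj_apply, MulEquiv.orderOf_eq, hs]
      · intro hx
        exact isConj_iff.mpr (hconj s x hs hx)
    rw [this]
    rfl
  set O := pPrimeCore 2 G with hOdef
  have hOn : O.Normal := Cfsg.Agent.Lib.Cores.pPrimeCore_normal 2
  have hOo : Odd (Nat.card O) := by
    rw [← Nat.coprime_two_right]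
    exact Cfsg.Agent.Lib.Cores.pPrimeCore_coprime 2
  have hOs : Group.IsSolvable O := hFT O hOo
  have hO1 : pPrimeCore 2 (G ⧸ O) = ⊥ := Cfsg.Agent.Lib.Cores.pPrimeCore_quotient_pPrimeCore 2
  have hsO : ∀ s : G, s * s = 1 → s ∈ O → s = 1 := by
    intro s hs hsO
    have h1 : orderOf (⟨s, hsO⟩ : O) ∣ Nat.card O := orderOf_dvd_natCard _
    rw [Subgroup.orderOf_mk] at h1
    by_contra hne
    rw [(hord s).mpr ⟨hs, hne⟩] at h1
    exact (Nat.not_even_iff_odd.mpr hOo) (even_iff_two_dvd.mpr h1)
  -- involutions of the quotient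
  have hinvq : ∀ q : G ⧸ O, q * q = 1 → q ≠ 1 → ∃ x : G, orderOf x = 2 ∧ QuotientGroup.mk x = q := by
    intro q hq hq1
    obtain ⟨x, hx, rfl⟩ := lift_inv O hOo q hq
    refine ⟨x, (hord x).mpr ⟨hx, ?_⟩, rfl⟩
    rintro rfl
    exact hq1 rfl
  have hconjq : ∀ q r : G ⧸ O, q * q = 1 → q ≠ 1 → r * r = 1 → r ≠ 1 →
      ∃ g : G ⧸ O, g * q * g⁻¹ = r := by
    intro q r hq hq1 hr hr1
    obtain ⟨x, hx, rfl⟩ := hinvq q hq hq1
    obtain ⟨y, hy, rfl⟩ := hinvq r hr hr1
    obtain ⟨g, rfl⟩ := hconj x y hx hy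
    exact ⟨QuotientGroup.mk g, rfl⟩
  -- the image of the normal closure
  have hNs := hKaz t ht
  set N := Subgroup.normalClosure ({t} : Set G) with hN
  have htN : t ∈ N := Subgroup.subset_normalClosure rfl
  have hNn : N.Normal := Subgroup.normalClosure_normal
  set Nq := N.map (QuotientGroup.mk' O) with hNq
  have hNqn : Nq.Normal := hNn.map _ (QuotientGroup.mk'_surjective O)
  have hNqs : Group.IsSolvable Nq :=
    solvable_of_surjective (MonoidHom.subgroupMap_surjective (QuotientGroup.mk' O) N)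
  have htq1 : (QuotientGroup.mk t : G ⧸ O) ≠ 1 := by
    rw [Ne, QuotientGroup.eq_one_iff]
    exact fun h => ht1 (hsO t htt h)
  have hNqnt : Nontrivial Nq := by
    rw [Subgroup.nontrivial_iff_exists_ne_one]
    exact ⟨QuotientGroup.mk t, ⟨t, htN, rfl⟩, htq1⟩
  obtain ⟨r, hr, A, hAc, hAa, hAp, hA1⟩ :=
    Cfsg.Agent.Lib.SolvableMinNormal.exists_characteristic_pgroup (G := Nq)
  set B := A.map Nq.subtype with hB
  have hBn : B.Normal := by
    have := hAc
    exact ConjAct.normal_of_characteristic_of_normal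
  have hBcard : Nat.card B = Nat.card A :=
    Nat.card_congr (A.equivMapOfInjective _ Nq.subtype_injective).toEquiv.symm
  have hBp : IsPGroup r B := hAp.of_equiv (A.equivMapOfInjective _ Nq.subtype_injective)
  have hB1 : B ≠ ⊥ := by
    rw [hB, Ne, Subgroup.map_eq_bot_iff_of_injective _ Nq.subtype_injective]
    exact hA1
  have hr2 : r = 2 := by
    by_contra hne
    apply hB1
    rw [← le_bot_iff, ← hO1]
    apply Cfsg.Agent.Lib.Cores.le_pPrimeCore hBn
    have : Fact r.Prime := ⟨hr⟩
    obtain ⟨n, hn⟩ := IsPGroup.iff_card.mp hBp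
    rw [hn]
    apply Nat.Coprime.pow_left
    rw [Nat.coprime_primes hr Nat.prime_two]
    exact hne
  rw [hr2] at hBp
  have hBcomm : ∀ x ∈ B, ∀ y ∈ B, x * y = y * x := by
    rintro _ ⟨x, hx, rfl⟩ _ ⟨y, hy, rfl⟩
    have h1 : (⟨x, hx⟩ : A) * ⟨y, hy⟩ = ⟨y, hy⟩ * ⟨x, hx⟩ := hAa.is_comm.comm _ _
    exact congrArg (fun z : A => ((z : Nq) : G ⧸ O)) h1
  -- all involutions of the quotient lie in `B`
  have hBinv : ∀ q : G ⧸ O, q * q = 1 → q ∈ B := by
    intro q hq
    by_cases hq1 : q = 1
    · rw [hq1]; exact one_mem _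
    have h2 : 2 ∣ Nat.card B := by
      obtain ⟨n, hn⟩ := IsPGroup.iff_card.mp hBp
      rw [hn]
      apply dvd_pow_self
      rintro rfl
      rw [pow_zero, Subgroup.card_eq_one] at hn
      exact hB1 hn
    obtain ⟨b, hb⟩ := exists_prime_orderOf_dvd_card' 2 h2
    have hb' : orderOf (b : G ⧸ O) = 2 := by rw [Subgroup.orderOf_coe, hb]
    obtain ⟨hb3, hb4⟩ := (hord (b : G ⧸ O)).mp hb'
    obtain ⟨g, rfl⟩ := hconjq b q hb3 hb4 hq hq1
    exact hBn.conj_mem _ b.2 g
  let E : Subgroup (G ⧸ O) :=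
    { carrier := {q | q * q = 1}
      mul_mem' := by
        intro x y hx hy
        have hx' : x * x = 1 := hx
        have hy' : y * y = 1 := hy
        show x * y * (x * y) = 1
        have hc := hBcomm y (hBinv y hy') x (hBinv x hx')
        calc x * y * (x * y) = x * (y * x) * y := by group
          _ = (x * x) * (y * y) := by rw [hc]; group
          _ = 1 := by rw [hx', hy', one_mul]
      one_mem' := by show (1 : G ⧸ O) * 1 = 1; simp
      inv_mem' := by
        intro x hx
        have hx' : x * x = 1 := hx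
        show x⁻¹ * x⁻¹ = 1
        rw [← mul_inv_rev, hx', inv_one] }
  have hE : ∀ q, q ∈ E ↔ q * q = 1 := fun q => Iff.rfl
  have hEn : E.Normal := by
    refine ⟨fun x hx g => ?_⟩
    rw [hE] at hx ⊢
    calc g * x * g⁻¹ * (g * x * g⁻¹) = g * (x * x) * g⁻¹ := by group
      _ = 1 := by rw [hx]; group
  have hEp : IsPGroup 2 E := by
    intro x
    refine ⟨1, ?_⟩
    apply Subtype.ext
    have := (hE _).mp x.2
    simp [pow_two, this]
  obtain ⟨a, ha⟩ := IsPGroup.iff_card.mp hEp
  have htE : (QuotientGroup.mk t : G ⧸ O) ∈ E := by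
    rw [hE, ← QuotientGroup.mk_mul, htt]; rfl
  -- the number of involutions of the quotient
  have hcount : (Subgroup.centralizer ({(QuotientGroup.mk t : G ⧸ O)} : Set (G ⧸ O))).index + 1 =
      2 ^ a := by
    rw [Cfsg.Agent.Blocks.Basic.index_centralizer_eq_ncard, ← ha]
    have : {h : G ⧸ O | IsConj (QuotientGroup.mk t) h} = (E : Set (G ⧸ O)) \ {1} := by
      ext x
      constructor
      · intro hx
        obtain ⟨g, hg⟩ := isConj_iff.mp hx
        refine ⟨?_, ?_⟩
        · rw [← hg]; exact hEn.conj_mem _ htE g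
        · intro hx1
          have hx1' : x = 1 := hx1
          rw [hx1', conj_eq_one_iff] at hg
          exact htq1 hg
      · rintro ⟨hx, hx1⟩
        exact isConj_iff.mpr (hconjq _ _ ((hE _).mp htE) htq1 hx hx1)
    rw [this, Set.ncard_diff_singleton_add_one (one_mem E) (Set.toFinite _)]
    rfl
  have hdvd : (Subgroup.centralizer ({(QuotientGroup.mk t : G ⧸ O)} : Set (G ⧸ O))).index ∣
      p ^ k := by
    rw [← hidx t ht]
    have h1 : (Subgroup.centralizer ({(QuotientGroup.mk t : G ⧸ O)} : Set (G ⧸ O))).index =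
        ((Subgroup.centralizer ({(QuotientGroup.mk t : G ⧸ O)} : Set (G ⧸ O))).comap
          (QuotientGroup.mk' O)).index :=
      (Subgroup.index_comap_of_surjective _ (QuotientGroup.mk'_surjective O)).symm
    rw [h1]
    apply Subgroup.index_dvd_of_le
    intro g hg
    rw [Subgroup.mem_comap, Subgroup.mem_centralizer_singleton_iff]
    rw [Subgroup.mem_centralizer_singleton_iff] at hg
    show (QuotientGroup.mk g : G ⧸ O) * QuotientGroup.mk t = QuotientGroup.mk t * QuotientGroup.mk g
    rw [← QuotientGroup.mk_mul, hg]; rfl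
  obtain ⟨j, _, hj⟩ := (Nat.dvd_prime_pow hp).mp hdvd
  rw [hj] at hcount
  have ha0 : a ≠ 0 := by
    rintro rfl
    have : 0 < p ^ j := pow_pos hp.pos j
    omega
  by_cases ha2 : 2 ≤ a
  · -- the Mersenne case
    have hj1 := arith hp ha2 hcount.symm
    rw [hj1, pow_one] at hcount
    apply solvable_of_quotient O hOs
    apply hM (G ⧸ O) E hEn a ha2 ha
    · rw [← hcount]; simpa using hp
    · exact fun x hx => hx
    · exact fun x hx => hx
    · intro x hx y hy hx1 hy1
      exact hconjq x y hx hx1 hy hy1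
  have ha1 : a = 1 := by omega
  subst ha1
  -- one involution in the quotient
  have hEt : ∀ q : G ⧸ O, q * q = 1 → q ≠ 1 → q = QuotientGroup.mk t := by
    intro q hq hq1
    by_contra hne
    have h1 : ({1, (QuotientGroup.mk t : G ⧸ O), q} : Set (G ⧸ O)) ⊆ (E : Set (G ⧸ O)) := by
      intro x hx
      rw [Set.mem_insert_iff, Set.mem_insert_iff, Set.mem_singleton_iff] at hx
      rcases hx with rfl | rfl | rfl
      · exact one_mem E
      · exact htE
      · exact hq
    have h2 := Set.ncard_le_ncard h1 (Set.toFinite _)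
    have h3 : (E : Set (G ⧸ O)).ncard = 2 := by
      have : (E : Set (G ⧸ O)).ncard = Nat.card E := rfl
      rw [this, ha, pow_one]
    rw [h3, Set.ncard_insert_of_notMem, Set.ncard_pair (Ne.symm hne)] at h2
    · omega
    · rw [Set.mem_insert_iff, Set.mem_singleton_iff, not_or]
      exact ⟨htq1.symm, Ne.symm hq1⟩
  -- `G = O C(s)` for every involution `s`
  have hOC : ∀ s : G, orderOf s = 2 → (Subgroup.centralizer ({s} : Set G)).index *
      Nat.card (O ⊓ Subgroup.centralizer {s} : Subgroup G) = Nat.card O := by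
    intro s hs
    obtain ⟨hss, hs1⟩ := (hord s).mp hs
    have hsq1 : (QuotientGroup.mk s : G ⧸ O) ≠ 1 := by
      rw [Ne, QuotientGroup.eq_one_iff]
      exact fun h => hs1 (hsO s hss h)
    have htop : Subgroup.centralizer ({s} : Set G) ⊔ O = ⊤ := by
      rw [eq_top_iff]
      intro g _
      -- `g s g⁻¹ ∈ s O`
      set b := g * s * g⁻¹ with hb
      have hbb : b * b = 1 := by
        rw [hb]
        calc g * s * g⁻¹ * (g * s * g⁻¹) = g * (s * s) * g⁻¹ := by group
          _ = 1 := by rw [hss]; group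
      have hb1 : (QuotientGroup.mk b : G ⧸ O) ≠ 1 := by
        rw [Ne, QuotientGroup.eq_one_iff]
        intro h
        have := hsO b hbb h
        rw [hb, conj_eq_one_iff] at this
        exact hs1 this
      have h1 : (QuotientGroup.mk b : G ⧸ O) = QuotientGroup.mk s := by
        rw [hEt _ (by rw [← QuotientGroup.mk_mul, hbb]; rfl) hb1,
          hEt (QuotientGroup.mk s) (by rw [← QuotientGroup.mk_mul, hss]; rfl) hsq1]
      have hsi : s⁻¹ = s := inv_eq_of_mul_eq_one_right hss
      have h2 : s * b ∈ O := by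
        have := QuotientGroup.eq.mp h1.symm
        rwa [hsi] at this
      have h3 : Odd (orderOf (s * b)) := by
        have h4 : orderOf (⟨s * b, h2⟩ : O) ∣ Nat.card O := orderOf_dvd_natCard _
        rw [Subgroup.orderOf_mk] at h4
        exact Odd.of_dvd_nat hOo h4
      obtain ⟨i, hi⟩ := conj_inv hbb hss h3
      have h4 : (s * b) ^ i ∈ O := pow_mem h2 i
      generalize (s * b) ^ i = z at hi h4
      have h5 : z * g ∈ Subgroup.centralizer ({s} : Set G) := by
        rw [Subgroup.mem_centralizer_singleton_iff]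
        have : (z * g) * s * (z * g)⁻¹ = s := by
          calc (z * g) * s * (z * g)⁻¹ = z * b * z⁻¹ := by rw [hb]; group
            _ = s := hi
        calc z * g * s = ((z * g) * s * (z * g)⁻¹) * (z * g) := by group
          _ = s * (z * g) := by rw [this]
      have h6 : g = z⁻¹ * (z * g) := by group
      rw [h6]
      exact mul_mem (Subgroup.mem_sup_right (inv_mem h4)) (Subgroup.mem_sup_left h5)
    set C := Subgroup.centralizer ({s} : Set G) with hC
    have h1 : O.relIndex C = O.index := by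
      rw [← Subgroup.relIndex_sup_right, htop, Subgroup.relIndex_top_right]
    have h2 : Nat.card (O ⊓ C : Subgroup G) * O.relIndex C = Nat.card C := by
      have h3 := Subgroup.relIndex_mul_relIndex ⊥ (O ⊓ C) C bot_le inf_le_right
      rw [Subgroup.relIndex_bot_left, Subgroup.relIndex_bot_left, Subgroup.inf_relIndex_right] at h3
      exact h3
    have h3 := O.card_mul_index
    have h4 := C.card_mul_index
    rw [h1] at h2
    have h5 : 0 < O.index := Nat.pos_of_ne_zero Subgroup.index_ne_zero_of_finite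
    have h6 : C.index * Nat.card (O ⊓ C : Subgroup G) * O.index = Nat.card O * O.index := by
      rw [h3, ← h4, ← h2]; ring
    exact Nat.eq_of_mul_eq_mul_right h5 h6
  -- a Sylow 2-subgroup
  obtain ⟨P⟩ : Nonempty (Sylow 2 G) := inferInstance
  have hPO : ∀ x ∈ P, x ∈ O → x = 1 := by
    intro x hx hxO
    have h1 : Nat.card (P ⊓ O : Subgroup G) = 1 := by
      obtain ⟨n, hn⟩ := IsPGroup.iff_card.mp P.isPGroup'
      have h2 : Nat.card (P ⊓ O : Subgroup G) ∣ Nat.card P := Subgroup.card_dvd_of_le inf_le_left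
      have h3 : Nat.card (P ⊓ O : Subgroup G) ∣ Nat.card O := Subgroup.card_dvd_of_le inf_le_right
      rw [hn] at h2
      have h4 : Nat.Coprime (2 ^ n) (Nat.card O) :=
        Nat.Coprime.pow_left n (Nat.coprime_two_left.mpr hOo)
      exact Nat.eq_one_of_dvd_coprimes h4 h2 h3
    rw [Subgroup.card_eq_one, Subgroup.eq_bot_iff_forall] at h1
    exact h1 x ⟨hx, hxO⟩
  have hU : Cfsg.Agent.Solvable.UniqueOrderP.UniqueP 2 P := by
    intro x y hx1 hx hy
    by_cases hy1 : y = 1
    · rw [hy1]; exact one_mem _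
    have key : ∀ z : P, z ≠ 1 → z ^ 2 = 1 → (QuotientGroup.mk (z : G) : G ⧸ O) = QuotientGroup.mk t := by
      intro z hz1 hz
      have hz' : (z : G) * z = 1 := by
        have := congrArg Subtype.val hz
        rw [pow_two] at this
        exact this
      apply hEt
      · rw [← QuotientGroup.mk_mul, hz']; rfl
      · rw [Ne, QuotientGroup.eq_one_iff]
        intro h
        exact hz1 (Subtype.ext (hPO z z.2 h))
    have h1 : x⁻¹ * y = 1 := by
      apply Subtype.ext
      apply hPO _ (x⁻¹ * y).2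
      have := QuotientGroup.eq.mp ((key x hx1 hx).trans (key y hy1 hy).symm)
      exact this
    rw [inv_mul_eq_one] at h1
    rw [← h1]
    exact Subgroup.mem_zpowers x
  rcases Cfsg.Agent.Solvable.UniqueOrderP.cyclic_or_quaternion P.isPGroup' hU with hcyc | hq
  · exact solvable_of_cyclic hFT P hcyc
  -- the quaternion case is impossible
  exfalso
  obtain ⟨_, m, hm, ⟨e⟩⟩ := hq
  obtain ⟨m', rfl⟩ : ∃ m', m = m' + 1 := ⟨m - 1, by omega⟩
  set i' : P := e.symm (QuaternionGroup.xa 0) with hi'
  set j' : P := e.symm (QuaternionGroup.a (2 ^ m' : ℕ)) with hj'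
  have hpow : (2 ^ (m' + 1) : ℕ) = 2 ^ m' + 2 ^ m' := by rw [pow_succ]; ring
  have hii : i' * i' = j' * j' := by
    rw [hi', hj', ← map_mul, ← map_mul, QuaternionGroup.xa_mul_xa, QuaternionGroup.a_mul_a]
    congr 2
    rw [sub_zero, add_zero, ← Nat.cast_add, ← hpow]
  have hij : i' * j' * i'⁻¹ = j'⁻¹ := by
    rw [hi', hj', ← map_inv, ← map_mul, ← map_mul, ← map_inv]
    congr 1
    rw [mul_inv_eq_iff_eq_mul, QuaternionGroup.xa_mul_a]
    have : (QuaternionGroup.a ((2 ^ m' : ℕ) : ZMod (2 * 2 ^ (m' + 1))))⁻¹ =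
        QuaternionGroup.a (-((2 ^ m' : ℕ) : ZMod (2 * 2 ^ (m' + 1)))) := rfl
    rw [this, QuaternionGroup.a_mul_xa]
    congr 1
    ring
  have hjj1 : j' * j' ≠ 1 := by
    rw [hj', ← map_mul, QuaternionGroup.a_mul_a]
    intro h
    have h1 := e.symm.injective (h.trans (map_one e.symm).symm)
    rw [QuaternionGroup.one_def] at h1
    have h2 := QuaternionGroup.a.inj h1
    rw [← Nat.cast_add, ← hpow, ZMod.natCast_eq_zero_iff] at h2
    have h3 := Nat.le_of_dvd (by positivity) h2
    have h4 : 0 < 2 ^ (m' + 1) := by positivity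
    omega
  have hjjjj : (j' * j') * (j' * j') = 1 := by
    rw [hj', ← map_mul, ← map_mul, QuaternionGroup.a_mul_a, QuaternionGroup.a_mul_a,
      ← map_one e.symm, QuaternionGroup.one_def]
    congr 2
    rw [← Nat.cast_add, ← hpow, ← Nat.cast_add, ZMod.natCast_eq_zero_iff]
    rw [two_mul]
  have hii' : (i' : G) * i' = j' * j' := congrArg Subtype.val hii
  have hij' : (i' : G) * j' * (i' : G)⁻¹ = (j' : G)⁻¹ := congrArg Subtype.val hij
  have hs : orderOf ((i' : G) * i') = 2 := by
    rw [hord, hii']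
    refine ⟨congrArg Subtype.val hjjjj, ?_⟩
    intro h
    exact hjj1 (Subtype.ext h)
  obtain ⟨n, hn⟩ := quat_index O hOo hOs hii' hij'
  have h1 := hOC _ hs
  rw [hidx _ hs] at h1
  have hpos : 0 < Nat.card (O ⊓ Subgroup.centralizer {(i' : G) * i'} : Subgroup G) := Nat.card_pos
  have h2 : p ^ k = n ^ 2 := by
    rw [hn, mul_comm] at h1
    exact Nat.eq_of_mul_eq_mul_left hpos h1
  have h3 : n ∣ p ^ k := by rw [h2, pow_two]; exact Dvd.intro _ rfl
  obtain ⟨l, _, rfl⟩ := (Nat.dvd_prime_pow hp).mp h3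
  rw [← pow_mul] at h2
  have h4 := Nat.pow_right_injective hp.two_le h2
  rw [h4] at hk
  exact (Nat.not_even_iff_odd.mpr hk) ⟨l, by ring⟩

end Cfsg.Agent.H544.PyrC
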